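import Cfsg.Agent.SplitTwo.HexDefs
/-!
# The commutator relations of `RGDZ 6` from the positive relations `HexPar` (S1144, m = 6)
-/

set_option autoImplicit false

namespace Cfsg.Agent.Hexagon.HexComm

open Cfsg.Agent.SplitTwo
open scoped commutatorElement

variable {E : Type*} [Field E] {σ : E ≃+* E} {G : Type*} [Group G]

theorem trc_fix (h : ∀ a, σ (σ (σ a)) = a) (a b : E) : σ (trc σ a b) = trc σ a b := by
  unfold trc
  rw [map_add, map_add, h]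
  ring

theorem nrm_fix (h : ∀ a, σ (σ (σ a)) = a) (a : E) : σ (nrm σ a) = nrm σ a := by
  unfold nrm
  rw [map_mul, map_mul, h]
  ring

theorem comm_eq_kk (x y : G) : ⁅x, y⁆ = kk x⁻¹ y⁻¹ := by
  unfold kk
  rw [commutatorElement_def, inv_inv, inv_inv]

/-- The commutator relations of `RGDZ 6`. -/
theorem comm_of_hexPar {X : ZMod (2 * 6) → Subgroup G} {x1 x2 x3 x4 x5 x6 : E → G}
    (h : HexPar σ X x1 x2 x3 x4 x5 x6) (k l : ℕ) (hk : 1 ≤ k) (hkl : k < l) (hl : l ≤ 6) (x : G)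
    (hx : x ∈ X k) (y : G) (hy : y ∈ X l) :
    ⁅x, y⁆ ∈ ⨆ r ∈ Set.Ioo k l, X ((r : ℕ) : ZMod (2 * 6)) := by
  have hin : ∀ r : ℕ, r ∈ Set.Ioo k l → ∀ g, g ∈ X ((r : ℕ) : ZMod (2 * 6)) →
      g ∈ ⨆ r ∈ Set.Ioo k l, X ((r : ℕ) : ZMod (2 * 6)) := fun r hr g hg =>
    Subgroup.mem_iSup_of_mem r (Subgroup.mem_iSup_of_mem hr hg)
  have m1 : ∀ g, g ∈ X ((1 : ℕ) : ZMod (2 * 6)) ↔ ∃ a, x1 a = g := fun g => by
    rw [Nat.cast_one]; exact h.mem1 g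
  have m2 : ∀ g, g ∈ X ((2 : ℕ) : ZMod (2 * 6)) ↔ ∃ a, σ a = a ∧ x2 a = g := fun g => h.mem2 g
  have m3 : ∀ g, g ∈ X ((3 : ℕ) : ZMod (2 * 6)) ↔ ∃ a, x3 a = g := fun g => h.mem3 g
  have m4 : ∀ g, g ∈ X ((4 : ℕ) : ZMod (2 * 6)) ↔ ∃ a, σ a = a ∧ x4 a = g := fun g => h.mem4 g
  have m5 : ∀ g, g ∈ X ((5 : ℕ) : ZMod (2 * 6)) ↔ ∃ a, x5 a = g := fun g => h.mem5 g
  have m6 : ∀ g, g ∈ X ((6 : ℕ) : ZMod (2 * 6)) ↔ ∃ a, σ a = a ∧ x6 a = g := fun g => h.mem6 g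
  have hc := h.rel.cube
  have f2 : ∀ a, σ a = a → (2 : ℕ) ∈ Set.Ioo k l → x2 a ∈ ⨆ r ∈ Set.Ioo k l, X ((r : ℕ) : ZMod (2 * 6)) :=
    fun a ha hr => hin 2 hr _ ((m2 _).2 ⟨a, ha, rfl⟩)
  have f3 : ∀ a, (3 : ℕ) ∈ Set.Ioo k l → x3 a ∈ ⨆ r ∈ Set.Ioo k l, X ((r : ℕ) : ZMod (2 * 6)) :=
    fun a hr => hin 3 hr _ ((m3 _).2 ⟨a, rfl⟩)
  have f4 : ∀ a, σ a = a → (4 : ℕ) ∈ Set.Ioo k l → x4 a ∈ ⨆ r ∈ Set.Ioo k l, X ((r : ℕ) : ZMod (2 * 6)) :=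
    fun a ha hr => hin 4 hr _ ((m4 _).2 ⟨a, ha, rfl⟩)
  have f5 : ∀ a, (5 : ℕ) ∈ Set.Ioo k l → x5 a ∈ ⨆ r ∈ Set.Ioo k l, X ((r : ℕ) : ZMod (2 * 6)) :=
    fun a hr => hin 5 hr _ ((m5 _).2 ⟨a, rfl⟩)
  have tfix := trc_fix hc
  have nfix := nrm_fix hc
  rw [comm_eq_kk]
  have hx' := inv_mem hx
  have hy' := inv_mem hy
  clear hx hy
  generalize x⁻¹ = u at hx'
  generalize y⁻¹ = v at hy'
  have hk5 : k ≤ 5 := by omega
  interval_cases k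
  · rw [m1] at hx'
    obtain ⟨a, rfl⟩ := hx'
    interval_cases l
    · rw [m2] at hy'
      obtain ⟨t, ht, rfl⟩ := hy'
      rw [h.rel.c12 a t ht]
      exact one_mem _
    · rw [m3] at hy'
      obtain ⟨b, rfl⟩ := hy'
      rw [h.rel.c13 a b]
      exact f2 _ (tfix _ _) (by simp)
    · rw [m4] at hy'
      obtain ⟨t, ht, rfl⟩ := hy'
      rw [h.rel.c14 a t ht]
      exact one_mem _
    · rw [m5] at hy'
      obtain ⟨b, rfl⟩ := hy'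
      rw [h.rel.c15 a b]
      exact mul_mem (mul_mem (f2 _ (by rw [map_neg, tfix]) (by simp)) (f3 _ (by simp)))
        (f4 _ (tfix _ _) (by simp))
    · rw [m6] at hy'
      obtain ⟨t, ht, rfl⟩ := hy'
      rw [h.rel.c16 a t ht]
      exact mul_mem (mul_mem (mul_mem (f2 _ (by rw [map_neg, map_mul, nfix, ht]) (by simp))
        (f3 _ (by simp))) (f4 _ (by rw [map_mul, map_pow, nfix, ht]) (by simp))) (f5 _ (by simp))
  · rw [m2] at hx'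
    obtain ⟨s, hs, rfl⟩ := hx'
    interval_cases l
    · rw [m3] at hy'
      obtain ⟨b, rfl⟩ := hy'
      rw [h.rel.c23 s b hs]
      exact one_mem _
    · rw [m4] at hy'
      obtain ⟨t, ht, rfl⟩ := hy'
      rw [h.rel.c24 s t hs ht]
      exact one_mem _
    · rw [m5] at hy'
      obtain ⟨b, rfl⟩ := hy'
      rw [h.rel.c25 s b hs]
      exact one_mem _
    · rw [m6] at hy'
      obtain ⟨t, ht, rfl⟩ := hy'
      rw [h.rel.c26 s t hs ht]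
      exact f4 _ (by rw [map_mul, hs, ht]) (by simp)
  · rw [m3] at hx'
    obtain ⟨a, rfl⟩ := hx'
    interval_cases l
    · rw [m4] at hy'
      obtain ⟨t, ht, rfl⟩ := hy'
      rw [h.rel.c34 a t ht]
      exact one_mem _
    · rw [m5] at hy'
      obtain ⟨b, rfl⟩ := hy'
      rw [h.rel.c35 a b]
      exact f4 _ (tfix _ _) (by simp)
    · rw [m6] at hy'
      obtain ⟨t, ht, rfl⟩ := hy'
      rw [h.rel.c36 a t ht]
      exact one_mem _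
  · rw [m4] at hx'
    obtain ⟨s, hs, rfl⟩ := hx'
    interval_cases l
    · rw [m5] at hy'
      obtain ⟨b, rfl⟩ := hy'
      rw [h.rel.c45 s b hs]
      exact one_mem _
    · rw [m6] at hy'
      obtain ⟨t, ht, rfl⟩ := hy'
      rw [h.rel.c46 s t hs ht]
      exact one_mem _
  · rw [m5] at hx'
    obtain ⟨a, rfl⟩ := hx'
    interval_cases l
    rw [m6] at hy'
    obtain ⟨t, ht, rfl⟩ := hy'
    rw [h.rel.c56 a t ht]
    exact one_mem _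

end Cfsg.Agent.Hexagon.HexComm
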