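import Cfsg.Agent.ChevalleyStructure.D4Twisted
import Cfsg.Agent.TitsThree.RankTwoZ
import Cfsg.Agent.Hexagon.HexComm

/-!
# `³D₄(q)` : the root datum of rank two (S1144, m = 6)

`X k = RS K (L k) ⊓ ³D₄(q)`, `k : ZMod 12`, where `L k` is the `k`-th class of roots of `D₄` modulo triality:
`L 1 = {p₁,p₃,p₄}`, …, `L 6 = {p₂}`, `L (k+6) = - L k`.
-/

set_option autoImplicit false

namespace Cfsg.Agent.Hexagon.TwD4RGD

open Cfsg.Lie
open Cfsg.Agent.ChevalleyStructure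
open Cfsg.Agent.ChevalleyStructure.D4Fixed (fix mem_fix)
open Cfsg.Agent.ChevalleyStructure.D4Comm
open Cfsg.Agent.ChevalleyStructure.D4Pos (lprod_inj)
open Cfsg.Agent.ChevalleyStructure.D4NCheck
open Cfsg.Agent.ChevalleyStructure.D4NConj (nR nR_def nG hR nR_eq)
open Cfsg.Agent.ChevalleyStructure.TwistedU
open Cfsg.Agent.ChevalleyStructure.D4U
open Cfsg.Agent.ChevalleyStructure.D4RGD
open Cfsg.Agent.ChevalleyStructure.D4Twisted
open Cfsg.Agent.TitsThree.RankTwoZ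
open scoped commutatorElement

/-- the classes of roots, in cyclic order -/
def Ltab : List (List ℕ) :=
  [[9], [18, 13, 12], [22], [20, 21, 17], [23], [19, 16, 15], [14], [5, 10, 11], [1], [3, 2, 6], [0],
    [4, 7, 8]]

/-- the `k`-th class of roots -/
def L (k : ZMod (2 * 6)) : List ℕ := Ltab.getD k.val []

theorem L_lt : ∀ k : ZMod (2 * 6), ∀ s ∈ L k, s < 24 := by decide +kernel

theorem chk_a : ∀ k : ZMod (2 * 6),
    ((L k).all fun s => decide (s < 24) && (L (6 - k)).contains (rfl' 1 s)) = true := by decide +kernel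

theorem chk_b : ∀ k : ZMod (2 * 6),
    ((L k).all fun s => decide (s < 24) && (L (8 - k)).contains (rb s)) = true := by decide +kernel

theorem chk_b' : ∀ k : ZMod (2 * 6),
    ((L k).all fun s => decide (s < 24) && (L (8 - k)).contains (rb' s)) = true := by decide +kernel

section

variable {K : Type*} [Field K]

/-- the diagonal subgroup normalises all `RS K l` -/
theorem H_RS {h : GL chevD4.Idx K} (hh : h ∈ chevD4.diagonalSubgroup K) {l : List ℕ}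
    (hl : ∀ s ∈ l, s < 24) {g : GL chevD4.Idx K} (hg : g ∈ RS K l) : h * g * h⁻¹ ∈ RS K l := by
  have key : RS K l ≤ (RS K l).comap (MulAut.conj h).toMonoidHom := by
    refine rspan_le xG fun s hs t => ?_
    change h * xG s t * h⁻¹ ∈ RS K l
    obtain ⟨u, hu⟩ := mem_rootSubgroup.1 (H_conj hh (hl s hs) (xG_mem_rootSubgroup (F := K) s t))
    rw [hu]
    exact mem_rspan xG (S := {k | k ∈ l}) hs u
  exact key hg

variable (K) (q : ℕ)

/-- the root groups -/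
def X (k : ZMod (2 * 6)) : Subgroup ↥(twistedD4 K q) := (RS K (L k)).subgroupOf (twistedD4 K q)

variable {K} {q}

theorem mem_X {k : ZMod (2 * 6)} {g : ↥(twistedD4 K q)} : g ∈ X K q k ↔ (g : GL chevD4.Idx K) ∈ RS K (L k) :=
  Iff.rfl

/-- the elements `h * n_a` induce `k ↦ 6 - k` -/
theorem maps_a {w : ↥(twistedD4 K q)} {h : GL chevD4.Idx K} (hh : h ∈ chevD4.diagonalSubgroup K)
    (hw : (w : GL chevD4.Idx K) = h * na K) : Maps (X K q) w (fun k => ((6 : ℕ) : ZMod (2 * 6)) - k) := by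
  have e6 : ∀ k : ZMod (2 * 6), ((6 : ℕ) : ZMod (2 * 6)) - (((6 : ℕ) : ZMod (2 * 6)) - k) = k := fun k => by
    rw [sub_sub_cancel]
  have c6 : ((6 : ℕ) : ZMod (2 * 6)) = 6 := rfl
  intro k x
  rw [mem_X, mem_X, Subgroup.coe_mul, Subgroup.coe_mul, Subgroup.coe_inv, hw]
  constructor
  · intro hx
    have h1 := H_RS (inv_mem hh) (L_lt _) hx
    have h2 := na_inv_RS K (chk_a _) h1
    rw [← c6, e6] at h2
    convert h2 using 1
    group
  · intro hx
    have h1 := na_RS K (chk_a _) hx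
    have h2 := H_RS hh (L_lt _) h1
    rw [← c6] at h2
    convert h2 using 1
    group

/-- the elements `h * n_b` induce `k ↦ 8 - k` -/
theorem maps_b {w : ↥(twistedD4 K q)} {h : GL chevD4.Idx K} (hh : h ∈ chevD4.diagonalSubgroup K)
    (hw : (w : GL chevD4.Idx K) = h * nb K) :
    Maps (X K q) w (fun k => ((6 : ℕ) : ZMod (2 * 6)) + 2 - k) := by
  have c8 : (8 : ZMod (2 * 6)) = ((6 : ℕ) : ZMod (2 * 6)) + 2 := by decide +kernel
  have e8 : ∀ k : ZMod (2 * 6),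
      ((6 : ℕ) : ZMod (2 * 6)) + 2 - (((6 : ℕ) : ZMod (2 * 6)) + 2 - k) = k := fun k => by
    rw [sub_sub_cancel]
  intro k x
  rw [mem_X, mem_X, Subgroup.coe_mul, Subgroup.coe_mul, Subgroup.coe_inv, hw]
  constructor
  · intro hx
    have h1 := H_RS (inv_mem hh) (L_lt _) hx
    have h2 := nb_inv_RS K (chk_b' _) h1
    rw [c8, e8] at h2
    convert h2 using 1
    group
  · intro hx
    have h1 := nb_RS K (chk_b _) hx
    have h2 := H_RS hh (L_lt _) h1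
    rw [c8] at h2
    convert h2 using 1
    group

end

section

variable {K : Type*} [Field K] {q : ℕ} {φ : K →+* K} (hφ : ∀ x, φ x = x ^ q)
  (hle : twistedD4 K q ≤ fix φ)

include hφ

theorem X_mem_tw (t : K) : D4Fixed.X φ t ∈ twistedD4 K q := D4Fixed.X_mem hφ t

theorem Y_mem_tw (t : K) : D4Fixed.Y φ t ∈ twistedD4 K q := D4Fixed.Y_mem hφ t

omit hφ in
theorem Y_mem_RS (t : K) : D4Fixed.Y φ t ∈ RS K [5, 10, 11] := by
  unfold D4Fixed.Y
  rw [xU_eq, xU_eq, xU_eq]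
  exact mul_mem (mul_mem (mem_rspan xG (S := {k | k ∈ [5, 10, 11]}) (by simp) _)
    (mem_rspan xG (S := {k | k ∈ [5, 10, 11]}) (by simp) _)) (mem_rspan xG (S := {k | k ∈ [5, 10, 11]}) (by simp) _)

omit hφ in
theorem Y_zero : D4Fixed.Y φ (0 : K) = 1 := by
  unfold D4Fixed.Y
  rw [map_zero, map_zero, xU_eq, xU_eq, xU_eq, xG_zero, xG_zero, xG_zero, one_mul, one_mul]

omit hφ in
theorem L7 : L ((6 : ℕ) + 1 : ZMod (2 * 6)) = [5, 10, 11] := by decide +kernel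
omit hφ in
theorem L1 : L (1 : ZMod (2 * 6)) = [18, 13, 12] := by decide +kernel
omit hφ in
theorem L6 : L ((6 : ℕ) : ZMod (2 * 6)) = [14] := by decide +kernel
omit hφ in
theorem L0 : L (0 : ZMod (2 * 6)) = [9] := by decide +kernel

include hle in
theorem muI (a : ↥(twistedD4 K q)) (ha : a ∈ X K q ((6 : ℕ) + 1)) (h1 : a ≠ 1) :
    ∃ x ∈ X K q 1, ∃ y ∈ X K q 1,
      Maps (X K q) (x * a * y) (fun k => ((6 : ℕ) : ZMod (2 * 6)) + 2 - k) := by
  rw [mem_X, L7] at ha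
  obtain ⟨t, ht⟩ := RS_neg_fix φ ha (hle a.2)
  have ht0 : t ≠ 0 := by
    rintro rfl
    apply h1
    apply Subtype.ext
    rw [ht, Y_zero]
    rfl
  let x : ↥(twistedD4 K q) := ⟨D4Fixed.X φ (-t⁻¹), X_mem_tw hφ _⟩
  have hx : x ∈ X K q 1 := by
    rw [mem_X, L1]
    exact X_mem_RS _
  refine ⟨x, hx, x, hx, ?_⟩
  refine maps_b (h := hb φ (-t⁻¹)) (hb_mem_diagonal φ (neg_ne_zero.2 (inv_ne_zero ht0))) ?_
  rw [← nbt_eq]
  change D4Fixed.X φ (-t⁻¹) * (a : GL chevD4.Idx K) * D4Fixed.X φ (-t⁻¹) = _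
  rw [ht, Y_rank_one, X_neg]
  group

include hle in
theorem muJ (a : ↥(twistedD4 K q)) (ha : a ∈ X K q 0) (h1 : a ≠ 1) :
    ∃ x ∈ X K q ((6 : ℕ) : ZMod (2 * 6)), ∃ y ∈ X K q ((6 : ℕ) : ZMod (2 * 6)),
      Maps (X K q) (x * a * y) (fun k => ((6 : ℕ) : ZMod (2 * 6)) - k) := by
  rw [mem_X, L0] at ha
  obtain ⟨t, htφ, ht⟩ := RS_9_fix φ ha (hle a.2)
  have ht0 : t ≠ 0 := by
    rintro rfl
    apply h1
    apply Subtype.ext
    rw [ht, xG_zero]
    rfl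
  have hs : φ (-t⁻¹) = -t⁻¹ := by rw [map_neg, map_inv₀, htφ]
  let x : ↥(twistedD4 K q) := ⟨xG 14 (-t⁻¹), xG14_mem hφ hs⟩
  have hx : x ∈ X K q ((6 : ℕ) : ZMod (2 * 6)) := by
    rw [mem_X, L6]
    exact mem_rspan xG (S := {k | k ∈ [14]}) (by simp) _
  refine ⟨x, hx, x, hx, ?_⟩
  refine maps_a (h := hR 14 (-t⁻¹)) (hR_mem (by norm_num) (neg_ne_zero.2 (inv_ne_zero ht0))) ?_
  have e : hR 14 (-t⁻¹) * na K = nR 14 (-t⁻¹) := by
    rw [nR_eq 14 (-t⁻¹)]
    rfl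
  rw [e]
  change xG 14 (-t⁻¹) * (a : GL chevD4.Idx K) * xG 14 (-t⁻¹) = _
  have e1 := rank_one_eq (r := 14) t
  rw [show 23 - 14 = 9 from rfl] at e1
  rw [ht, e1, xG_neg]
  group

theorem neI : X K q ((6 : ℕ) + 1) ≠ ⊥ := by
  intro h
  have h1 : (⟨D4Fixed.Y φ (1 : K), Y_mem_tw hφ _⟩ : ↥(twistedD4 K q)) ∈ X K q ((6 : ℕ) + 1) := by
    rw [mem_X, L7]
    exact Y_mem_RS _
  rw [h, Subgroup.mem_bot] at h1
  have h2 : D4Fixed.Y φ (1 : K) = 1 := congrArg Subtype.val h1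
  unfold D4Fixed.Y at h2
  rw [map_one, map_one, xU_eq, xU_eq, xU_eq] at h2
  have h3 := lprod_inj [5, 10, 11] (by decide +kernel) (t := fun _ => (1 : K)) (t' := fun _ => 0) (by
    rw [lprod_cons, lprod_cons, lprod_cons, lprod_nil, mul_one, ← mul_assoc, h2]
    simp only [lprod_cons, lprod_nil, xG_zero, mul_one]) 5 (by simp)
  exact one_ne_zero h3

omit hφ in
theorem neJ : X K q 0 ≠ ⊥ := by
  intro h
  have h0 : xG 9 (1 : K) ∈ twistedD4 K q := by
    rw [← xU_eq]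
    exact D4Fixed.x9_mem (one_pow q)
  have h1 : (⟨xG 9 (1 : K), h0⟩ : ↥(twistedD4 K q)) ∈ X K q 0 := by
    rw [mem_X, L0]
    exact mem_rspan xG (S := {k | k ∈ [9]}) (by simp) _
  rw [h, Subgroup.mem_bot] at h1
  have h2 : xG 9 (1 : K) = (1 : GL chevD4.Idx K) := congrArg Subtype.val h1
  rw [xG_eq_one_iff (by norm_num)] at h2
  exact one_ne_zero h2

include hle in
/-- The root datum of `³D₄(q)`. -/
noncomputable def rgdz (comm : ∀ k l : ℕ, 1 ≤ k → k < l → l ≤ 6 → ∀ x ∈ X K q k, ∀ y ∈ X K q l,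
    ⁅x, y⁆ ∈ ⨆ r ∈ Set.Ioo k l, X K q ((r : ℕ) : ZMod (2 * 6))) : RGDZ 6 ↥(twistedD4 K q) where
  X := X K q
  one_le := by norm_num
  comm := comm
  muI := muI hφ hle
  muJ := muJ hφ hle
  neI := neI hφ
  neJ := neJ

/-- The root groups generate. -/
theorem iSup_X : ⨆ k, X K q k = ⊤ := by
  have key : twistedD4 K q ≤ (⨆ k, X K q k).map (twistedD4 K q).subtype := by
    have hin : ∀ (k : ZMod (2 * 6)) (g : GL chevD4.Idx K) (hg : g ∈ twistedD4 K q),
        g ∈ RS K (L k) → g ∈ (⨆ k, X K q k).map (twistedD4 K q).subtype := fun k g hg h =>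
      ⟨⟨g, hg⟩, Subgroup.mem_iSup_of_mem k (mem_X.2 h), rfl⟩
    refine D4Fixed.twisted_induction hφ (fun t ht => ?_) (fun t ht => ?_) (fun t => ?_) (fun t => ?_)
    · refine hin ((6 : ℕ) : ZMod (2 * 6)) _ (D4Fixed.x14_mem ((hφ t).symm.trans ht)) ?_
      rw [L6, xU_eq]
      exact mem_rspan xG (S := {k | k ∈ [14]}) (by simp) _
    · refine hin 0 _ (D4Fixed.x9_mem ((hφ t).symm.trans ht)) ?_
      rw [L0, xU_eq]
      exact mem_rspan xG (S := {k | k ∈ [9]}) (by simp) _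
    · refine hin 1 _ (X_mem_tw hφ t) ?_
      rw [L1]
      exact X_mem_RS t
    · refine hin ((6 : ℕ) + 1) _ (Y_mem_tw hφ t) ?_
      rw [L7]
      exact Y_mem_RS t
  rw [eq_top_iff]
  rintro g -
  obtain ⟨g', hg', h⟩ := key g.2
  have : g' = g := Subtype.ext h
  rw [← this]
  exact hg'

omit hφ in
theorem chk_pos : ∀ k : ℕ, k ≤ 6 → 1 ≤ k →
    ((L (k : ZMod (2 * 6))).all fun s => decide (12 ≤ s) && decide (s < 24)) = true := by
  intro k h1 h2
  interval_cases k <;> decide +kernel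

omit hφ in
theorem X_le_pos {k : ℕ} (h1 : 1 ≤ k) (h2 : k ≤ 6) :
    X K q k ≤ (chevD4.posUnipotent K).subgroupOf (twistedD4 K q) :=
  fun _ hg => Subgroup.mem_subgroupOf.2 (RS_le_U (chk_pos k h2 h1) (mem_X.1 hg))

omit hφ in
/-- The positive root groups do not generate. -/
theorem U_ne_top (c : RGDZ 6 ↥(twistedD4 K q)) (hc : c.X = X K q) : c.U ≠ ⊤ := by
  intro h
  have h1 : c.U ≤ (chevD4.posUnipotent K).subgroupOf (twistedD4 K q) := by
    refine iSup₂_le fun k hk => ?_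
    change c.X (k : ZMod (2 * 6)) ≤ _
    rw [hc]
    exact X_le_pos hk.1 hk.2
  have h0 : xG 9 (1 : K) ∈ twistedD4 K q := by
    rw [← xU_eq]
    exact D4Fixed.x9_mem (one_pow q)
  have h2 : (⟨xG 9 (1 : K), h0⟩ : ↥(twistedD4 K q)) ∈ c.U := by
    rw [h]
    exact Subgroup.mem_top _
  have h3 : xG 9 (1 : K) ∈ chevD4.posUnipotent K := h1 h2
  exact xG_not_mem_borel (r := 9) (by norm_num) one_ne_zero
    ((le_sup_left : chevD4.posUnipotent K ≤ chevD4.borelSubgroup K) h3)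

end

/-! ### Summary -/

open Cfsg.Agent.SplitTwo in
/-- The `RGDZ` of `³D₄(q)` from the positive relations. -/
theorem exists_rgdz {K : Type*} [Field K] [Fintype K] {q : ℕ} (hK : Fintype.card K = q ^ 3)
    {φ : K →+* K} (hφ : ∀ x, φ x = x ^ q) {σ : K ≃+* K}
    {x1 x2 x3 x4 x5 x6 : K → ↥(twistedD4 K q)} (h : HexPar σ (X K q) x1 x2 x3 x4 x5 x6) :
    ∃ c : RGDZ 6 ↥(twistedD4 K q), c.X = X K q ∧ ⨆ k, c.X k = ⊤ ∧ c.U ≠ ⊤ :=
  ⟨rgdz hφ (D4Fixed.twisted_le_fix hK hφ) (fun k l hk hkl hl x hx y hy =>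
    HexComm.comm_of_hexPar h k l hk hkl hl x hx y hy), rfl, iSup_X hφ, U_ne_top _ rfl⟩

end Cfsg.Agent.Hexagon.TwD4RGD
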