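import Cfsg.Agent.Hexagon.TwD4Rel
import Cfsg.Agent.Hexagon.TwD4RGD

/-!
# ³D₄(q): parametrisation of the positive root groups (S1144, `m = 6`, K side)

`exists_hexPar`: the root groups `X K q k` of `³D₄(q)` are parametrised by `x₁, …, x₆` satisfying the positive relations;
`exists_rgdz`: the complete K side.
-/

set_option autoImplicit false
set_option maxHeartbeats 400000

namespace Cfsg.Agent.Hexagon.TwD4Par

open Cfsg.Lie
open Cfsg.Agent.ChevalleyStructure
open Cfsg.Agent.ChevalleyStructure.D4Fixed (fix mem_fix)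
open Cfsg.Agent.ChevalleyStructure.D4Comm
open Cfsg.Agent.ChevalleyStructure.D4Pos (lprod_inj)
open Cfsg.Agent.ChevalleyStructure.D4NCheck
open Cfsg.Agent.ChevalleyStructure.D4NConj
open Cfsg.Agent.ChevalleyStructure.TwistedU
open Cfsg.Agent.ChevalleyStructure.D4U
open Cfsg.Agent.ChevalleyStructure.D4RGD
open Cfsg.Agent.ChevalleyStructure.D4Twisted
open Cfsg.Agent.TitsThree.RankTwoZ
open Cfsg.Agent.Hexagon.TwD4RGD Cfsg.Agent.Hexagon.TwD4Rel
open Cfsg.Agent.SplitTwo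

section General

variable {K : Type*} [Field K]

/-! ### Conjugation by `n_a`, `n_b` -/

theorem na_c {s s' : ℕ} {e : ℤ} (hs : s < 24) (h : (rfl' 1 s, eta 1 s) = (s', e)) (t : K) :
    na K * xG s t * (na K)⁻¹ = xG s' ((e : K) * t) := by
  have h1 : rfl' 1 s = s' := congrArg Prod.fst h
  have h2 : eta 1 s = e := congrArg Prod.snd h
  rw [na, nG_conj (by norm_num) hs, h1, h2]

theorem nb_c {s s1 s2 s3 : ℕ} {e1 e2 e3 : ℤ} (hs : s < 24) (hs1 : s1 < 24) (hs2 : s2 < 24)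
    (h1 : (rfl' 3 s, eta 3 s) = (s1, e1)) (h2 : (rfl' 2 s1, eta 2 s1) = (s2, e2))
    (h3 : (rfl' 0 s2, eta 0 s2) = (s3, e3)) (t : K) :
    nb K * xG s t * (nb K)⁻¹ = xG s3 ((e3 : K) * ((e2 : K) * ((e1 : K) * t))) := by
  have a1 : rfl' 3 s = s1 := congrArg Prod.fst h1
  have a2 : eta 3 s = e1 := congrArg Prod.snd h1
  have b1 : rfl' 2 s1 = s2 := congrArg Prod.fst h2
  have b2 : eta 2 s1 = e2 := congrArg Prod.snd h2
  have c1 : rfl' 0 s2 = s3 := congrArg Prod.fst h3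
  have c2 : eta 0 s2 = e3 := congrArg Prod.snd h3
  have e : nb K * xG s t * (nb K)⁻¹ =
      nG K 0 * (nG K 2 * (nG K 3 * xG s t * (nG K 3)⁻¹) * (nG K 2)⁻¹) * (nG K 0)⁻¹ := by
    rw [nb]; group
  rw [e, nG_conj (by norm_num) hs, a1, a2, nG_conj (by norm_num) hs1, b1, b2,
    nG_conj (by norm_num) hs2, c1, c2]

theorem conj3 {G : Type*} [Group G] (g a b c : G) :
    g * (a * (b * c)) * g⁻¹ = g * a * g⁻¹ * (g * b * g⁻¹ * (g * c * g⁻¹)) := by group

theorem conj3' {G : Type*} [Group G] (g a b c : G) :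
    g * (a * b * c) * g⁻¹ = g * a * g⁻¹ * (g * b * g⁻¹ * (g * c * g⁻¹)) := by group

theorem w1_eq (r : ℕ) (a : K) : wordG [(r, a)] = xG r a := by
  rw [wordG_cons, wordG_nil, mul_one]

theorem w3_eq (r s u : ℕ) (a b c : K) : wordG [(r, a), (s, b), (u, c)] = xG r a * (xG s b * xG u c) := by
  simp only [wordG_cons, wordG_nil, mul_one]

variable (σ : K ≃+* K)

theorem na_X1 (a : K) : na K * X1 σ a * (na K)⁻¹ = X5 σ a := by
  rw [X1, X5, w3_eq, w3_eq, conj3, na_c (s := 18) (s' := 19) (e := 1) (by norm_num) (by decide +kernel),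
    na_c (s := 13) (s' := 16) (e := -1) (by norm_num) (by decide +kernel),
    na_c (s := 12) (s' := 15) (e := -1) (by norm_num) (by decide +kernel)]
  simp

theorem nb_X5 (a : K) : nb K * X5 σ (-a) * (nb K)⁻¹ = X3 σ a := by
  rw [X5, X3, w3_eq, w3_eq, conj3,
    nb_c (s := 19) (s1 := 20) (s2 := 22) (s3 := 17) (e1 := 1) (e2 := 1) (e3 := 1) (by norm_num)
      (by norm_num) (by norm_num) (by decide +kernel) (by decide +kernel) (by decide +kernel),
    nb_c (s := 16) (s1 := 17) (s2 := 15) (s3 := 20) (e1 := 1) (e2 := -1) (e3 := -1) (by norm_num)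
      (by norm_num) (by norm_num) (by decide +kernel) (by decide +kernel) (by decide +kernel),
    nb_c (s := 15) (s1 := 14) (s2 := 16) (s3 := 21) (e1 := -1) (e2 := 1) (e3 := -1) (by norm_num)
      (by norm_num) (by norm_num) (by decide +kernel) (by decide +kernel) (by decide +kernel)]
  simp

theorem nb_X6 (t : K) : nb K * X6 (-t) * (nb K)⁻¹ = X2 t := by
  rw [X6, X2, w1_eq, w1_eq, nb_c (s := 14) (s1 := 15) (s2 := 17) (s3 := 22) (e1 := 1) (e2 := 1)
    (e3 := -1) (by norm_num) (by norm_num) (by norm_num) (by decide +kernel) (by decide +kernel)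
    (by decide +kernel)]
  simp

theorem na_X2 (t : K) : na K * X2 (-t) * (na K)⁻¹ = X4 t := by
  rw [X2, X4, w1_eq, w1_eq, na_c (s := 22) (s' := 23) (e := 1) (by norm_num) (by decide +kernel)]
  simp

theorem na_9 (t : K) : na K * xG 9 (-t) * (na K)⁻¹ = X6 t := by
  rw [X6, w1_eq, na_c (s := 9) (s' := 14) (e := -1) (by norm_num) (by decide +kernel)]
  simp

theorem nb_Y (φ : K →+* K) (hσ : ∀ x, σ x = φ x) (t : K) :
    nb K * D4Fixed.Y φ (-t) * (nb K)⁻¹ = X1 σ t := by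
  rw [D4Fixed.Y, xU_eq, xU_eq, xU_eq, X1, w3_eq, conj3',
    nb_c (s := 5) (s1 := 5) (s2 := 5) (s3 := 18) (e1 := 1) (e2 := 1) (e3 := -1) (by norm_num)
      (by norm_num) (by norm_num) (by decide +kernel) (by decide +kernel) (by decide +kernel),
    nb_c (s := 10) (s1 := 10) (s2 := 13) (s3 := 13) (e1 := 1) (e2 := -1) (e3 := 1) (by norm_num)
      (by norm_num) (by norm_num) (by decide +kernel) (by decide +kernel) (by decide +kernel),
    nb_c (s := 11) (s1 := 12) (s2 := 12) (s3 := 12) (e1 := -1) (e2 := 1) (e3 := 1) (by norm_num)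
      (by norm_num) (by norm_num) (by decide +kernel) (by decide +kernel) (by decide +kernel)]
  simp [hσ]

theorem X1_eq (φ : K →+* K) (hσ : ∀ x, σ x = φ x) (t : K) : X1 σ t = D4Fixed.X φ t := by
  rw [D4Fixed.X, xU_eq, xU_eq, xU_eq, X1, w3_eq, mul_assoc, hσ, hσ]

theorem X1_inj {a b : K} (h : X1 σ a = X1 σ b) : a = b := by
  rw [X1, X1, w3_eq, w3_eq] at h
  have h3 := lprod_inj [18, 13, 12] (by decide +kernel)
    (t := fun r => if r = 18 then a else if r = 13 then σ a else σ (σ a))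
    (t' := fun r => if r = 18 then b else if r = 13 then σ b else σ (σ b)) (by
      rw [lprod_cons, lprod_cons, lprod_cons, lprod_nil, lprod_cons, lprod_cons, lprod_cons, lprod_nil,
        mul_one, mul_one]
      exact h) 18 (by simp)
  simpa using h3

theorem X6_inj {a b : K} (h : (X6 a : GL chevD4.Idx K) = X6 b) : a = b := by
  rw [X6, X6, w1_eq, w1_eq] at h
  exact lprod_inj [14] (by decide +kernel) (t := fun _ => a) (t' := fun _ => b) (by
    rw [lprod_cons, lprod_nil, lprod_cons, lprod_nil, mul_one, mul_one]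
    exact h) 14 (by simp)

end General

section Twisted

variable {K : Type*} [Field K] {q : ℕ} {φ : K →+* K} (hφ : ∀ x, φ x = x ^ q)
  {σ : K ≃+* K} (hσ : ∀ x, σ x = φ x)

include hφ hσ

theorem X1_mem (a : K) : X1 σ a ∈ twistedD4 K q := by
  rw [X1_eq σ φ hσ]
  exact D4Fixed.X_mem hφ a

theorem X6_mem {t : K} (ht : σ t = t) : X6 t ∈ twistedD4 K q := by
  rw [X6, w1_eq, ← xU_eq]
  exact D4Fixed.x14_mem (by rw [← hφ, ← hσ, ht])

theorem X5_mem (a : K) : X5 σ a ∈ twistedD4 K q := by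
  rw [← na_X1]
  exact mul_mem (mul_mem (na_mem hφ) (X1_mem hφ hσ a)) (inv_mem (na_mem hφ))

theorem X3_mem (a : K) : X3 σ a ∈ twistedD4 K q := by
  rw [← nb_X5]
  exact mul_mem (mul_mem (nb_mem hφ) (X5_mem hφ hσ _)) (inv_mem (nb_mem hφ))

theorem X2_mem {t : K} (ht : σ t = t) : X2 t ∈ twistedD4 K q := by
  rw [← nb_X6]
  exact mul_mem (mul_mem (nb_mem hφ) (X6_mem hφ hσ (by rw [map_neg, ht]))) (inv_mem (nb_mem hφ))

theorem X4_mem {t : K} (ht : σ t = t) : X4 t ∈ twistedD4 K q := by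
  rw [← na_X2]
  exact mul_mem (mul_mem (na_mem hφ) (X2_mem hφ hσ (by rw [map_neg, ht]))) (inv_mem (na_mem hφ))

end Twisted

section Par

open Classical in
/-- the maps into `³D₄(q)`; outside of the fixed field the value is `1` -/
noncomputable def ev {K : Type*} [Field K] {q : ℕ} (f : K → GL chevD4.Idx K) (a : K) : ↥(twistedD4 K q) :=
  if h : f a ∈ twistedD4 K q then ⟨f a, h⟩ else 1

variable {K : Type*} [Field K] {q : ℕ}

theorem ev_coe {f : K → GL chevD4.Idx K} {a : K} (h : f a ∈ twistedD4 K q) :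
    ((ev f a : ↥(twistedD4 K q)) : GL chevD4.Idx K) = f a := by
  rw [ev, dif_pos h]

variable {φ : K →+* K} (hφ : ∀ x, φ x = x ^ q) (hle : twistedD4 K q ≤ fix φ)
  {σ : K ≃+* K} (hσ : ∀ x, σ x = φ x)

include hφ hσ

theorem c1 (a : K) : ((ev (X1 σ) a : ↥(twistedD4 K q)) : GL chevD4.Idx K) = X1 σ a :=
  ev_coe (X1_mem hφ hσ a)
theorem c2 {t : K} (ht : σ t = t) : ((ev X2 t : ↥(twistedD4 K q)) : GL chevD4.Idx K) = X2 t :=
  ev_coe (X2_mem hφ hσ ht)
theorem c3 (a : K) : ((ev (X3 σ) a : ↥(twistedD4 K q)) : GL chevD4.Idx K) = X3 σ a :=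
  ev_coe (X3_mem hφ hσ a)
theorem c4 {t : K} (ht : σ t = t) : ((ev X4 t : ↥(twistedD4 K q)) : GL chevD4.Idx K) = X4 t :=
  ev_coe (X4_mem hφ hσ ht)
theorem c5 (a : K) : ((ev (X5 σ) a : ↥(twistedD4 K q)) : GL chevD4.Idx K) = X5 σ a :=
  ev_coe (X5_mem hφ hσ a)
theorem c6 {t : K} (ht : σ t = t) : ((ev X6 t : ↥(twistedD4 K q)) : GL chevD4.Idx K) = X6 t :=
  ev_coe (X6_mem hφ hσ ht)

theorem kk_coe (x y : ↥(twistedD4 K q)) :
    ((kk x y : ↥(twistedD4 K q)) : GL chevD4.Idx K) = kk (x : GL chevD4.Idx K) y := rfl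

omit hφ hσ in
theorem conj_mem_iff {n : GL chevD4.Idx K} (hn : n ∈ twistedD4 K q) {f : ZMod (2 * 6) → ZMod (2 * 6)}
    (hm : Maps (X K q) ⟨n, hn⟩ f) {k k' : ZMod (2 * 6)} (hk : f k = k') {x x' : GL chevD4.Idx K}
    (hx : x ∈ twistedD4 K q) (hx' : x' ∈ twistedD4 K q) (h : n * x * n⁻¹ = x') :
    (⟨x', hx'⟩ : ↥(twistedD4 K q)) ∈ X K q k' ↔ (⟨x, hx⟩ : ↥(twistedD4 K q)) ∈ X K q k := by
  have h1 := hm k ⟨x, hx⟩
  rw [hk] at h1
  have e : (⟨n, hn⟩ : ↥(twistedD4 K q)) * ⟨x, hx⟩ * ⟨n, hn⟩⁻¹ = ⟨x', hx'⟩ := Subtype.ext h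
  rw [e] at h1
  exact h1

omit hσ in
theorem maps_na : Maps (X K q) ⟨na K, na_mem hφ⟩ (fun k => ((6 : ℕ) : ZMod (2 * 6)) - k) :=
  maps_a (one_mem _) (one_mul _).symm

omit hσ in
theorem maps_nb : Maps (X K q) ⟨nb K, nb_mem hφ⟩ (fun k => ((6 : ℕ) : ZMod (2 * 6)) + 2 - k) :=
  maps_b (one_mem _) (one_mul _).symm

/-! ### the root groups -/

/-- `f` parametrises `X K q k` (restricted to the parameters satisfying `P`) -/
def Onto (P : K → Prop) (f : K → GL chevD4.Idx K) (k : ZMod (2 * 6)) : Prop :=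
  ∀ g : ↥(twistedD4 K q), g ∈ X K q k ↔ ∃ a, P a ∧ f a = g

omit hφ hσ in
/-- transport by conjugation -/
theorem Onto.conj {P : K → Prop} {f f' : K → GL chevD4.Idx K} {k k' : ZMod (2 * 6)}
    {n : GL chevD4.Idx K} (hn : n ∈ twistedD4 K q) {w : ZMod (2 * 6) → ZMod (2 * 6)}
    (hm : Maps (X K q) ⟨n, hn⟩ w) (hk : w k = k') (h : Onto (q := q) P f k) (hP : ∀ a, P a → P (-a))
    (hc : ∀ a, n * f (-a) * n⁻¹ = f' a) : Onto (q := q) P f' k' := by
  intro g
  have h1 := hm k (⟨n, hn⟩⁻¹ * g * ⟨n, hn⟩)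
  have e : (⟨n, hn⟩ : ↥(twistedD4 K q)) * (⟨n, hn⟩⁻¹ * g * ⟨n, hn⟩) * ⟨n, hn⟩⁻¹ = g := by group
  rw [e, hk, h] at h1
  rw [h1]
  constructor
  · rintro ⟨a, ha, e⟩
    refine ⟨-a, hP a ha, ?_⟩
    rw [← hc, neg_neg, e]
    change n * (n⁻¹ * (g : GL chevD4.Idx K) * n) * n⁻¹ = _
    group
  · rintro ⟨a, ha, e⟩
    refine ⟨-a, hP a ha, ?_⟩
    change f (-a) = n⁻¹ * (g : GL chevD4.Idx K) * n
    rw [← e, ← hc]
    group

omit hφ hσ in
/-- transport by conjugation (without sign) -/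
theorem Onto.conj' {P : K → Prop} {f f' : K → GL chevD4.Idx K} {k k' : ZMod (2 * 6)}
    {n : GL chevD4.Idx K} (hn : n ∈ twistedD4 K q) {w : ZMod (2 * 6) → ZMod (2 * 6)}
    (hm : Maps (X K q) ⟨n, hn⟩ w) (hk : w k = k') (h : Onto (q := q) P f k)
    (hc : ∀ a, n * f a * n⁻¹ = f' a) : Onto (q := q) P f' k' := by
  intro g
  have h1 := hm k (⟨n, hn⟩⁻¹ * g * ⟨n, hn⟩)
  have e : (⟨n, hn⟩ : ↥(twistedD4 K q)) * (⟨n, hn⟩⁻¹ * g * ⟨n, hn⟩) * ⟨n, hn⟩⁻¹ = g := by group
  rw [e, hk, h] at h1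
  rw [h1]
  constructor
  · rintro ⟨a, ha, e⟩
    refine ⟨a, ha, ?_⟩
    rw [← hc, e]
    change n * (n⁻¹ * (g : GL chevD4.Idx K) * n) * n⁻¹ = _
    group
  · rintro ⟨a, ha, e⟩
    refine ⟨a, ha, ?_⟩
    change f a = n⁻¹ * (g : GL chevD4.Idx K) * n
    rw [← e, ← hc]
    group

include hle in
omit hσ in
theorem onto7 : Onto (q := q) (fun _ => True) (D4Fixed.Y φ) ((6 : ℕ) + 1) := by
  intro g
  rw [mem_X, L7]
  constructor
  · intro h
    obtain ⟨t, ht⟩ := RS_neg_fix φ h (hle g.2)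
    exact ⟨t, trivial, ht.symm⟩
  · rintro ⟨t, -, ht⟩
    rw [← ht]
    exact Y_mem_RS t

include hle in
theorem onto0 : Onto (q := q) (fun t => σ t = t) (xG 9) 0 := by
  intro g
  rw [mem_X, L0]
  constructor
  · intro h
    obtain ⟨t, htφ, ht⟩ := RS_9_fix φ h (hle g.2)
    exact ⟨t, (hσ t).trans htφ, ht.symm⟩
  · rintro ⟨t, -, ht⟩
    rw [← ht]
    exact mem_rspan xG (S := {k | k ∈ [9]}) (by simp) _

include hle in
theorem onto1 : Onto (q := q) (fun _ => True) (X1 σ) 1 :=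
  (onto7 hφ hle).conj (nb_mem hφ) (maps_nb hφ) (by decide +kernel) (fun _ _ => trivial)
    fun a => nb_Y σ φ hσ a

include hle in
theorem onto6 : Onto (q := q) (fun t => σ t = t) (X6 : K → GL chevD4.Idx K) 6 :=
  (onto0 hφ hle hσ).conj (na_mem hφ) (maps_na hφ) (by decide +kernel)
    (fun a ha => by rw [map_neg, ha]) fun a => na_9 a

include hle in
theorem onto5 : Onto (q := q) (fun _ => True) (X5 σ) 5 :=
  (onto1 hφ hle hσ).conj' (na_mem hφ) (maps_na hφ) (by decide +kernel) fun a => na_X1 σ a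

include hle in
theorem onto3 : Onto (q := q) (fun _ => True) (X3 σ) 3 :=
  (onto5 hφ hle hσ).conj (nb_mem hφ) (maps_nb hφ) (by decide +kernel) (fun _ _ => trivial)
    fun a => nb_X5 σ a

include hle in
theorem onto2 : Onto (q := q) (fun t => σ t = t) (X2 : K → GL chevD4.Idx K) 2 :=
  (onto6 hφ hle hσ).conj (nb_mem hφ) (maps_nb hφ) (by decide +kernel)
    (fun a ha => by rw [map_neg, ha]) fun a => nb_X6 a

include hle in
theorem onto4 : Onto (q := q) (fun t => σ t = t) (X4 : K → GL chevD4.Idx K) 4 :=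
  (onto2 hφ hle hσ).conj (na_mem hφ) (maps_na hφ) (by decide +kernel)
    (fun a ha => by rw [map_neg, ha]) fun a => na_X2 a

theorem X5_inj {a b : K} (h : X5 σ a = X5 σ b) : a = b := by
  rw [← na_X1, ← na_X1] at h
  exact X1_inj σ (mul_left_cancel (mul_right_cancel h))

theorem X3_inj {a b : K} (h : X3 σ a = X3 σ b) : a = b := by
  rw [← nb_X5, ← nb_X5] at h
  exact neg_injective (X5_inj hφ hσ (mul_left_cancel (mul_right_cancel h)))

omit hφ hσ in
theorem X2_inj {a b : K} (h : (X2 a : GL chevD4.Idx K) = X2 b) : a = b := by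
  rw [← nb_X6, ← nb_X6] at h
  exact neg_injective (X6_inj (mul_left_cancel (mul_right_cancel h)))

omit hφ hσ in
theorem X4_inj {a b : K} (h : (X4 a : GL chevD4.Idx K) = X4 b) : a = b := by
  rw [← na_X2, ← na_X2] at h
  exact neg_injective (X2_inj (mul_left_cancel (mul_right_cancel h)))

include hle in
/-- **The parametrisation of the positive root groups of `³D₄(q)`.** -/
theorem hexPar (h3 : ∀ a, σ (σ (σ a)) = a) : HexPar σ (X K q) (ev (X1 σ)) (ev X2) (ev (X3 σ))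
    (ev X4) (ev (X5 σ)) (ev X6) := by
  have R := TwD4Rel.hexRel σ h3
  have C1 := c1 hφ hσ
  have C2 := fun {t : K} (ht : σ t = t) => c2 hφ hσ ht
  have C3 := c3 hφ hσ
  have C4 := fun {t : K} (ht : σ t = t) => c4 hφ hσ ht
  have C5 := c5 hφ hσ
  have C6 := fun {t : K} (ht : σ t = t) => c6 hφ hσ ht
  have ft : ∀ a b : K, σ (trc σ a b) = trc σ a b := fun a b => by
    simp only [trc, map_add, h3]; ring
  have fn : ∀ a : K, σ (nrm σ a) = nrm σ a := fun a => by
    simp only [nrm, map_mul, h3]; ring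
  refine ⟨?_, ?_, ?_, ?_, ?_, ?_, ?_, ?_, ?_, ?_, ?_, ?_, ?_⟩
  · refine ⟨h3, ?_, ?_, ?_, ?_, ?_, ?_, ?_, ?_, ?_, ?_, ?_, ?_, ?_, ?_, ?_, ?_, ?_, ?_, ?_, ?_, ?_⟩
    · intro a b
      apply Subtype.ext
      rw [Subgroup.coe_mul, C1, C1, C1]
      exact R.add1 a b
    · intro a b ha hb
      apply Subtype.ext
      rw [Subgroup.coe_mul, C2 ha, C2 hb, C2 (by rw [map_add, ha, hb])]
      exact R.add2 a b ha hb
    · intro a b
      apply Subtype.ext
      rw [Subgroup.coe_mul, C3, C3, C3]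
      exact R.add3 a b
    · intro a b ha hb
      apply Subtype.ext
      rw [Subgroup.coe_mul, C4 ha, C4 hb, C4 (by rw [map_add, ha, hb])]
      exact R.add4 a b ha hb
    · intro a b
      apply Subtype.ext
      rw [Subgroup.coe_mul, C5, C5, C5]
      exact R.add5 a b
    · intro a b ha hb
      apply Subtype.ext
      rw [Subgroup.coe_mul, C6 ha, C6 hb, C6 (by rw [map_add, ha, hb])]
      exact R.add6 a b ha hb
    · intro a t ht
      apply Subtype.ext
      change kk (ev (X1 σ) a : GL chevD4.Idx K) (ev X2 t : ↥(twistedD4 K q)) = 1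
      rw [C1, C2 ht]
      exact R.c12 a t ht
    · intro a b
      apply Subtype.ext
      change kk (ev (X1 σ) a : GL chevD4.Idx K) (ev (X3 σ) b : ↥(twistedD4 K q)) = _
      rw [C1, C3, C2 (ft a b)]
      exact R.c13 a b
    · intro a t ht
      apply Subtype.ext
      change kk (ev (X1 σ) a : GL chevD4.Idx K) (ev X4 t : ↥(twistedD4 K q)) = 1
      rw [C1, C4 ht]
      exact R.c14 a t ht
    · intro a b
      apply Subtype.ext
      change kk (ev (X1 σ) a : GL chevD4.Idx K) (ev (X5 σ) b : ↥(twistedD4 K q)) = _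
      rw [Subgroup.coe_mul, Subgroup.coe_mul, C1, C5, C2 (by rw [map_neg, ft]), C3, C4 (ft _ _)]
      exact R.c15 a b
    · intro a t ht
      apply Subtype.ext
      change kk (ev (X1 σ) a : GL chevD4.Idx K) (ev X6 t : ↥(twistedD4 K q)) = _
      rw [Subgroup.coe_mul, Subgroup.coe_mul, Subgroup.coe_mul, C1, C6 ht,
        C2 (by rw [map_neg, map_mul, ht, fn]), C3, C4 (by rw [map_mul, map_pow, ht, fn]), C5]
      exact R.c16 a t ht
    · intro t a ht
      apply Subtype.ext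
      change kk (ev X2 t : GL chevD4.Idx K) (ev (X3 σ) a : ↥(twistedD4 K q)) = 1
      rw [C3, C2 ht]
      exact R.c23 t a ht
    · intro t u ht hu
      apply Subtype.ext
      change kk (ev X2 t : GL chevD4.Idx K) (ev X4 u : ↥(twistedD4 K q)) = 1
      rw [C2 ht, C4 hu]
      exact R.c24 t u ht hu
    · intro t a ht
      apply Subtype.ext
      change kk (ev X2 t : GL chevD4.Idx K) (ev (X5 σ) a : ↥(twistedD4 K q)) = 1
      rw [C5, C2 ht]
      exact R.c25 t a ht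
    · intro t u ht hu
      apply Subtype.ext
      change kk (ev X2 t : GL chevD4.Idx K) (ev X6 u : ↥(twistedD4 K q)) = _
      rw [C2 ht, C6 hu, C4 (by rw [map_mul, ht, hu])]
      exact R.c26 t u ht hu
    · intro a t ht
      apply Subtype.ext
      change kk (ev (X3 σ) a : GL chevD4.Idx K) (ev X4 t : ↥(twistedD4 K q)) = 1
      rw [C3, C4 ht]
      exact R.c34 a t ht
    · intro a b
      apply Subtype.ext
      change kk (ev (X3 σ) a : GL chevD4.Idx K) (ev (X5 σ) b : ↥(twistedD4 K q)) = _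
      rw [C3, C5, C4 (ft a b)]
      exact R.c35 a b
    · intro a t ht
      apply Subtype.ext
      change kk (ev (X3 σ) a : GL chevD4.Idx K) (ev X6 t : ↥(twistedD4 K q)) = 1
      rw [C3, C6 ht]
      exact R.c36 a t ht
    · intro t a ht
      apply Subtype.ext
      change kk (ev X4 t : GL chevD4.Idx K) (ev (X5 σ) a : ↥(twistedD4 K q)) = 1
      rw [C4 ht, C5]
      exact R.c45 t a ht
    · intro t u ht hu
      apply Subtype.ext
      change kk (ev X4 t : GL chevD4.Idx K) (ev X6 u : ↥(twistedD4 K q)) = 1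
      rw [C4 ht, C6 hu]
      exact R.c46 t u ht hu
    · intro a t ht
      apply Subtype.ext
      change kk (ev (X5 σ) a : GL chevD4.Idx K) (ev X6 t : ↥(twistedD4 K q)) = 1
      rw [C5, C6 ht]
      exact R.c56 a t ht
  · intro a b h
    have h' := congrArg Subtype.val h
    rw [C1, C1] at h'
    exact X1_inj σ h'
  · intro a b ha hb h
    have h' := congrArg Subtype.val h
    rw [C2 ha, C2 hb] at h'
    exact X2_inj h'
  · intro a b h
    have h' := congrArg Subtype.val h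
    rw [C3, C3] at h'
    exact X3_inj hφ hσ h'
  · intro a b ha hb h
    have h' := congrArg Subtype.val h
    rw [C4 ha, C4 hb] at h'
    exact X4_inj h'
  · intro a b h
    have h' := congrArg Subtype.val h
    rw [C5, C5] at h'
    exact X5_inj hφ hσ h'
  · intro a b ha hb h
    have h' := congrArg Subtype.val h
    rw [C6 ha, C6 hb] at h'
    exact X6_inj h'
  · intro g
    rw [onto1 hφ hle hσ g]
    constructor
    · rintro ⟨a, -, h⟩
      exact ⟨a, Subtype.ext (by rw [C1, h])⟩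
    · rintro ⟨a, rfl⟩
      exact ⟨a, trivial, (C1 a).symm⟩
  · intro g
    rw [onto2 hφ hle hσ g]
    constructor
    · rintro ⟨a, ha, h⟩
      exact ⟨a, ha, Subtype.ext (by rw [C2 ha, h])⟩
    · rintro ⟨a, ha, rfl⟩
      exact ⟨a, ha, (C2 ha).symm⟩
  · intro g
    rw [onto3 hφ hle hσ g]
    constructor
    · rintro ⟨a, -, h⟩
      exact ⟨a, Subtype.ext (by rw [C3, h])⟩
    · rintro ⟨a, rfl⟩
      exact ⟨a, trivial, (C3 a).symm⟩
  · intro g
    rw [onto4 hφ hle hσ g]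
    constructor
    · rintro ⟨a, ha, h⟩
      exact ⟨a, ha, Subtype.ext (by rw [C4 ha, h])⟩
    · rintro ⟨a, ha, rfl⟩
      exact ⟨a, ha, (C4 ha).symm⟩
  · intro g
    rw [onto5 hφ hle hσ g]
    constructor
    · rintro ⟨a, -, h⟩
      exact ⟨a, Subtype.ext (by rw [C5, h])⟩
    · rintro ⟨a, rfl⟩
      exact ⟨a, trivial, (C5 a).symm⟩
  · intro g
    rw [onto6 hφ hle hσ g]
    constructor
    · rintro ⟨a, ha, h⟩
      exact ⟨a, ha, Subtype.ext (by rw [C6 ha, h])⟩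
    · rintro ⟨a, ha, rfl⟩
      exact ⟨a, ha, (C6 ha).symm⟩

end Par

/-- **The K side of `³D₄(q)`.** -/
theorem exists_kside {K : Type*} [Field K] [Fintype K] {q : ℕ} (hq : IsPrimePow q)
    (hK : Fintype.card K = q ^ 3) {σ : K ≃+* K} (hσ : ∀ x, σ x = x ^ q) :
    ∃ (c : RGDZ 6 ↥(twistedD4 K q)) (x1 x2 x3 x4 x5 x6 : K → ↥(twistedD4 K q)),
      HexPar σ c.X x1 x2 x3 x4 x5 x6 ∧ ⨆ k, c.X k = ⊤ ∧ c.U ≠ ⊤ := by
  obtain ⟨φ, hφ⟩ := D4Fixed.exists_frob hq hK
  have hσφ : ∀ x, σ x = φ x := fun x => by rw [hσ, hφ]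
  have h3 : ∀ a, σ (σ (σ a)) = a := by
    intro t
    rw [hσ, hσ, hσ, ← pow_mul, ← pow_mul]
    have : q * (q * q) = q ^ 3 := by ring
    rw [this, ← hK]
    exact FiniteField.pow_card t
  have hP := hexPar hφ (D4Fixed.twisted_le_fix hK hφ) hσφ h3
  obtain ⟨c, hc, h1, h2⟩ := TwD4RGD.exists_rgdz hK hφ hP
  exact ⟨c, _, _, _, _, _, _, hc ▸ hP, h1, h2⟩

end Cfsg.Agent.Hexagon.TwD4Par
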