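import Cfsg.Agent.Hexagon.G2Rel

/-!
# `G₂`: parametrisation of the positive root groups (S1144, `m = 6`, K side)
-/

set_option autoImplicit false

namespace Cfsg.Agent.Hexagon.G2Par

open Cfsg.Lie
open Cfsg.Agent.ChevalleyStructure.G2N (xG coe_xG xG_add xG_zero xG_neg)
open Cfsg.Agent.SplitTwo Cfsg.Agent.Hexagon.G2Rel

variable {K : Type*} [Field K]

theorem xG_inj {r : ℕ} (hr : r < 12) {t u : K} (h : (xG r t : GL chevG2.Idx K) = xG r u) : t = u := by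
  have hD : Cfsg.Agent.ChevalleyStructure.Elts.InList chevG2 := by simp
  refine Cfsg.Agent.ChevalleyStructure.Elts.xG_injective hD (r := r) hr ?_
  apply Units.ext
  exact congrArg Units.val h

theorem xG_mem {r : ℕ} (hr : r < 12) (t : K) : xG r t ∈ chevG2.group K := by
  refine Subgroup.subset_closure ⟨⟨r, hr⟩, t, ?_⟩
  rw [coe_xG]
  exact dif_pos (show r < chevG2.nroots from hr)

/-- the parametrisations -/
def y1 (a : K) : ↥(chevG2.group K) := ⟨Y1 a, xG_mem (by norm_num) _⟩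
def y2 (t : K) : ↥(chevG2.group K) := ⟨Y2 t, xG_mem (by norm_num) _⟩
def y3 (a : K) : ↥(chevG2.group K) := ⟨Y3 a, xG_mem (by norm_num) _⟩
def y4 (t : K) : ↥(chevG2.group K) := ⟨Y4 t, xG_mem (by norm_num) _⟩
def y5 (a : K) : ↥(chevG2.group K) := ⟨Y5 a, xG_mem (by norm_num) _⟩
def y6 (t : K) : ↥(chevG2.group K) := ⟨Y6 t, xG_mem (by norm_num) _⟩

theorem hexRel' : HexRel (RingEquiv.refl K) (y1 : K → ↥(chevG2.group K)) y2 y3 y4 y5 y6 := by
  have R := G2Rel.hexRel (K := K)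
  exact
  { cube := fun _ => rfl
    add1 := fun a b => Subtype.ext (R.add1 a b)
    add2 := fun a b ha hb => Subtype.ext (R.add2 a b ha hb)
    add3 := fun a b => Subtype.ext (R.add3 a b)
    add4 := fun a b ha hb => Subtype.ext (R.add4 a b ha hb)
    add5 := fun a b => Subtype.ext (R.add5 a b)
    add6 := fun a b ha hb => Subtype.ext (R.add6 a b ha hb)
    c12 := fun a t ht => Subtype.ext (R.c12 a t ht)
    c13 := fun a b => Subtype.ext (R.c13 a b)
    c14 := fun a t ht => Subtype.ext (R.c14 a t ht)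
    c15 := fun a b => Subtype.ext (R.c15 a b)
    c16 := fun a t ht => Subtype.ext (R.c16 a t ht)
    c23 := fun t a ht => Subtype.ext (R.c23 t a ht)
    c24 := fun t u ht hu => Subtype.ext (R.c24 t u ht hu)
    c25 := fun t a ht => Subtype.ext (R.c25 t a ht)
    c26 := fun t u ht hu => Subtype.ext (R.c26 t u ht hu)
    c34 := fun a t ht => Subtype.ext (R.c34 a t ht)
    c35 := fun a b => Subtype.ext (R.c35 a b)
    c36 := fun a t ht => Subtype.ext (R.c36 a t ht)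
    c45 := fun t a ht => Subtype.ext (R.c45 t a ht)
    c46 := fun t u ht hu => Subtype.ext (R.c46 t u ht hu)
    c56 := fun a t ht => Subtype.ext (R.c56 a t ht) }

/-- **The parametrisation of the positive root groups of `G₂`**, for every family `X` of root groups whose members
`X 1, …, X 6` are the root subgroups of `a, 3a+b, 2a+b, 3a+2b, a+b, b`. -/
theorem hexPar {X : ZMod (2 * 6) → Subgroup ↥(chevG2.group K)}
    (h1 : ∀ g : ↥(chevG2.group K), g ∈ X 1 ↔ ∃ t : K, (g : GL chevG2.Idx K) = xG 7 t)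
    (h2 : ∀ g : ↥(chevG2.group K), g ∈ X 2 ↔ ∃ t : K, (g : GL chevG2.Idx K) = xG 10 t)
    (h3 : ∀ g : ↥(chevG2.group K), g ∈ X 3 ↔ ∃ t : K, (g : GL chevG2.Idx K) = xG 9 t)
    (h4 : ∀ g : ↥(chevG2.group K), g ∈ X 4 ↔ ∃ t : K, (g : GL chevG2.Idx K) = xG 11 t)
    (h5 : ∀ g : ↥(chevG2.group K), g ∈ X 5 ↔ ∃ t : K, (g : GL chevG2.Idx K) = xG 8 t)
    (h6 : ∀ g : ↥(chevG2.group K), g ∈ X 6 ↔ ∃ t : K, (g : GL chevG2.Idx K) = xG 6 t) :
    HexPar (RingEquiv.refl K) X (y1 : K → ↥(chevG2.group K)) y2 y3 y4 y5 y6 where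
  rel := hexRel'
  inj1 a b h := xG_inj (r := 7) (by norm_num) (congrArg Subtype.val h)
  inj2 a b _ _ h := neg_injective (xG_inj (r := 10) (by norm_num) (congrArg Subtype.val h))
  inj3 a b h := neg_injective (xG_inj (r := 9) (by norm_num) (congrArg Subtype.val h))
  inj4 a b _ _ h := xG_inj (r := 11) (by norm_num) (congrArg Subtype.val h)
  inj5 a b h := xG_inj (r := 8) (by norm_num) (congrArg Subtype.val h)
  inj6 a b _ _ h := xG_inj (r := 6) (by norm_num) (congrArg Subtype.val h)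
  mem1 g := by
    rw [h1]
    exact ⟨fun ⟨t, ht⟩ => ⟨t, Subtype.ext ht.symm⟩, fun ⟨t, ht⟩ => ⟨t, (congrArg Subtype.val ht).symm⟩⟩
  mem2 g := by
    rw [h2]
    refine ⟨fun ⟨t, ht⟩ => ⟨-t, rfl, Subtype.ext ?_⟩, fun ⟨t, _, ht⟩ => ⟨-t, (congrArg Subtype.val ht).symm⟩⟩
    change xG 10 (- -t) = _
    rw [neg_neg, ht]
  mem3 g := by
    rw [h3]
    refine ⟨fun ⟨t, ht⟩ => ⟨-t, Subtype.ext ?_⟩, fun ⟨t, ht⟩ => ⟨-t, (congrArg Subtype.val ht).symm⟩⟩
    change xG 9 (- -t) = _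
    rw [neg_neg, ht]
  mem4 g := by
    rw [h4]
    exact ⟨fun ⟨t, ht⟩ => ⟨t, rfl, Subtype.ext ht.symm⟩,
      fun ⟨t, _, ht⟩ => ⟨t, (congrArg Subtype.val ht).symm⟩⟩
  mem5 g := by
    rw [h5]
    exact ⟨fun ⟨t, ht⟩ => ⟨t, Subtype.ext ht.symm⟩, fun ⟨t, ht⟩ => ⟨t, (congrArg Subtype.val ht).symm⟩⟩
  mem6 g := by
    rw [h6]
    exact ⟨fun ⟨t, ht⟩ => ⟨t, rfl, Subtype.ext ht.symm⟩,
      fun ⟨t, _, ht⟩ => ⟨t, (congrArg Subtype.val ht).symm⟩⟩

end Cfsg.Agent.Hexagon.G2Par
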