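import Cfsg.Agent.Hexagon.G2Side
import Cfsg.Agent.Hexagon.G2Par
import Cfsg.Agent.ChevalleyStructure.BruhatSplit

/-!
# The K side of `G₂` (S1144, `m = 6`)

`hexPar`: the root groups of `chevG2.group F` are parametrised by a hexagonal system `HexPar 1`.  `exists_kside`:
root datum `RGDZ 6`, generation, and opposite root elements outside `U`, over every field.
-/

set_option autoImplicit false

namespace Cfsg.Agent.Hexagon.G2End

open Cfsg.Lie
open Cfsg.Agent.ChevalleyStructure.Elts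
open Cfsg.Agent.Hexagon.G2Pos Cfsg.Agent.Hexagon.G2Side Cfsg.Agent.Hexagon.G2Rel
open Cfsg.Agent.SplitTwo
open Cfsg.Agent.TitsThree.RankTwoIdx Cfsg.Agent.TitsThree.RankTwoZ

universe u

variable {F : Type u} [Field F]

theorem xG_eq (r : ℕ) (t : F) : (Cfsg.Agent.ChevalleyStructure.G2N.xG r t : GL chevG2.Idx F) = xG hG2 r t :=
  Units.ext rfl

theorem mem_aux {k : ZMod (2 * 6)} {r : ℕ} (hr : tab k = r) (g : ↥(chevG2.group F)) :
    g ∈ X F k ↔ ∃ a, xs r a = g := by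
  rw [mem_X, hr]
  exact ⟨fun ⟨t, h⟩ => ⟨t, h.symm⟩, fun ⟨t, h⟩ => ⟨t, h.symm⟩⟩

theorem mem_aux' {k : ZMod (2 * 6)} {r : ℕ} (hr : tab k = r) (g : ↥(chevG2.group F)) :
    g ∈ X F k ↔ ∃ t : F, (g : GL chevG2.Idx F) = Cfsg.Agent.ChevalleyStructure.G2N.xG r t := by
  rw [mem_aux hr]
  constructor
  · rintro ⟨t, rfl⟩
    exact ⟨t, (xG_eq r t).symm⟩
  · rintro ⟨t, ht⟩
    exact ⟨t, Subtype.ext (by rw [ht, xG_eq]; rfl)⟩

/-- **The hexagonal system of `chevG2.group F`.** -/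
theorem hexPar : HexPar (RingEquiv.refl F) (X F) Cfsg.Agent.Hexagon.G2Par.y1 Cfsg.Agent.Hexagon.G2Par.y2
    Cfsg.Agent.Hexagon.G2Par.y3 Cfsg.Agent.Hexagon.G2Par.y4 Cfsg.Agent.Hexagon.G2Par.y5
    Cfsg.Agent.Hexagon.G2Par.y6 :=
  Cfsg.Agent.Hexagon.G2Par.hexPar (mem_aux' (by decide +kernel)) (mem_aux' (by decide +kernel))
    (mem_aux' (by decide +kernel)) (mem_aux' (by decide +kernel)) (mem_aux' (by decide +kernel))
    (mem_aux' (by decide +kernel))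

/-- `U` consists of positive unipotent elements. -/
theorem U_le : ∀ g ∈ (rgdz F).U, (g : GL chevG2.Idx F) ∈ chevG2.posUnipotent F := by
  have h : (rgdz F).U ≤ (chevG2.posUnipotent F).subgroupOf (chevG2.group F) := by
    refine iSup₂_le fun k hk g hg => ?_
    have hg' : g ∈ X F (k : ZMod (2 * 6)) := hg
    obtain ⟨t, rfl⟩ := mem_X.1 hg'
    rw [Subgroup.mem_subgroupOf, coe_xs]
    apply xG_mem_posUnipotent
    have h1 := hk.1
    have h2 := hk.2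
    have hk' : k = 1 ∨ k = 2 ∨ k = 3 ∨ k = 4 ∨ k = 5 ∨ k = 6 := by omega
    rcases hk' with rfl | rfl | rfl | rfl | rfl | rfl <;> decide +kernel
  exact fun g hg => h hg

/-- A nontrivial negative root element is not in `U`. -/
theorem neg_not_mem {r : ℕ} (hr : chevG2.IsNegRoot r) : (xs r 1 : ↥(chevG2.group F)) ∉ (rgdz F).U := by
  intro h
  have h1 : xG hG2 r (1 : F) ∈ chevG2.posUnipotent F ⊓ chevG2.negUnipotent F :=
    ⟨U_le _ h, xG_mem_negUnipotent hG2 hr 1⟩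
  rw [Cfsg.Agent.ChevalleyStructure.Triangular.pos_inf_neg_eq_bot hG2] at h1
  exact one_ne_zero ((xG_eq_one_iff hG2 hr.1 (1 : F)).1 h1)

theorem exists_seven : ∃ a ∈ (rgdz F).X (((6 : ℕ) : ZMod (2 * 6)) + 1), a ∉ (rgdz F).U :=
  ⟨xs 4 1, (mem_aux (by decide +kernel) _).2 ⟨1, rfl⟩, neg_not_mem (by decide +kernel)⟩

theorem exists_zero : ∃ a ∈ (rgdz F).X 0, a ∉ (rgdz F).U :=
  ⟨xs 5 1, (mem_aux (by decide +kernel) _).2 ⟨1, rfl⟩, neg_not_mem (by decide +kernel)⟩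

theorem U_ne_top : (rgdz F).U ≠ ⊤ := by
  intro h
  obtain ⟨a, _, ha⟩ := exists_zero (F := F)
  rw [h] at ha
  exact ha trivial

/-- **The K side of `G₂`.** -/
theorem exists_kside (F : Type u) [Field F] :
    ∃ (c : RGDZ 6 ↥(chevG2.group F)) (x1 x2 x3 x4 x5 x6 : F → ↥(chevG2.group F)),
      HexPar (RingEquiv.refl F) c.X x1 x2 x3 x4 x5 x6 ∧ ⨆ k, c.X k = ⊤ ∧ c.U ≠ ⊤ ∧
        (∃ a ∈ c.X 7, a ∉ c.U) ∧ ∃ a ∈ c.X 0, a ∉ c.U :=
  ⟨rgdz F, _, _, _, _, _, _, hexPar, gen F, U_ne_top, exists_seven, exists_zero⟩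

end Cfsg.Agent.Hexagon.G2End
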