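import Cfsg.Agent.Hex.Defs
import Cfsg.Agent.RootSeq.Final

/-!
# Positive relations of a hexagonal root group sequence (`G₂` and `³D₄`), every characteristic

`HexPos φ S`: root homomorphisms `x1, …, x6` into `S` with the commutator relations of the positive root groups of
`G₂(F)` (`K = F`, `φ = 1`) or `³D₄` (`K / F` cubic), in any characteristic.  `HexPos.prod`: the product of two
packages is a package.  `ident`: two simple groups with root data `c : R2 6 G`, `c' : R2 6 G'` whose positive root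
groups are the images of the root homomorphisms of two packages over the same `φ` are isomorphic.
-/

set_option autoImplicit false

namespace Cfsg.Agent.Hexagon.Pos

open Cfsg.Agent.Hex.Defs (sh cr nm tr)
open Cfsg.Agent.TitsThree.RankTwoIdx
open Cfsg.Agent.RootSeq.Final
open scoped commutatorElement

variable {F K : Type*} [Field F] [Field K] [Algebra F K]

/-- The pair `(K, φ)`: `φ³ = 1` and `F` is the fixed field of `φ` (no condition on the characteristic). -/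
structure Pair (φ : K ≃ₐ[F] K) : Prop where
  three : ∀ t : K, φ (φ (φ t)) = t
  fixed : ∀ t : K, φ t = t → ∃ s : F, algebraMap F K s = t

theorem algebraMap_nm {φ : K ≃ₐ[F] K} (h : Pair φ) (t : K) :
    algebraMap F K (nm φ t) = t * φ t * φ (φ t) := by
  apply Function.invFun_eq
  apply h.fixed
  rw [map_mul, map_mul, h.three]
  ring

theorem algebraMap_tr {φ : K ≃ₐ[F] K} (h : Pair φ) (t : K) :
    algebraMap F K (tr φ t) = t + φ t + φ (φ t) := by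
  apply Function.invFun_eq
  apply h.fixed
  rw [map_add, map_add, h.three]
  ring

/-- Root homomorphisms and positive commutator relations of type `G₂`, `³D₄`. -/
structure HexPos (φ : K ≃ₐ[F] K) (S : Type*) [Group S] where
  x1 : K → S
  x2 : F → S
  x3 : K → S
  x4 : F → S
  x5 : K → S
  x6 : F → S
  add1 : ∀ s t, x1 (s + t) = x1 s * x1 t
  add2 : ∀ s t, x2 (s + t) = x2 s * x2 t
  add3 : ∀ s t, x3 (s + t) = x3 s * x3 t
  add4 : ∀ s t, x4 (s + t) = x4 s * x4 t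
  add5 : ∀ s t, x5 (s + t) = x5 s * x5 t
  add6 : ∀ s t, x6 (s + t) = x6 s * x6 t
  inj1 : ∀ t, x1 t = 1 → t = 0
  inj2 : ∀ t, x2 t = 1 → t = 0
  inj3 : ∀ t, x3 t = 1 → t = 0
  inj4 : ∀ t, x4 t = 1 → t = 0
  inj5 : ∀ t, x5 t = 1 → t = 0
  inj6 : ∀ t, x6 t = 1 → t = 0
  r13 : ∀ a b, ⁅x1 a, x3 b⁆ = x2 (tr φ (a * b))
  r35 : ∀ b c, ⁅x3 b, x5 c⁆ = x4 (-tr φ (b * c))
  r26 : ∀ u v, ⁅x2 u, x6 v⁆ = x4 (-(u * v))
  r15 : ∀ a b, ⁅x1 a, x5 b⁆ = x2 (-tr φ (sh φ a * b)) * x3 (-cr φ a b) * x4 (-tr φ (a * sh φ b))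
  r16 : ∀ a u, ⁅x1 a, x6 u⁆ =
    x2 (u * nm φ a) * x3 (u • sh φ a) * x4 (-(u ^ 2 * nm φ a)) * x5 (-(u • a))
  c12 : ∀ s t, ⁅x1 s, x2 t⁆ = 1
  c14 : ∀ s t, ⁅x1 s, x4 t⁆ = 1
  c23 : ∀ s t, ⁅x2 s, x3 t⁆ = 1
  c24 : ∀ s t, ⁅x2 s, x4 t⁆ = 1
  c25 : ∀ s t, ⁅x2 s, x5 t⁆ = 1
  c34 : ∀ s t, ⁅x3 s, x4 t⁆ = 1
  c36 : ∀ s t, ⁅x3 s, x6 t⁆ = 1
  c45 : ∀ s t, ⁅x4 s, x5 t⁆ = 1
  c46 : ∀ s t, ⁅x4 s, x6 t⁆ = 1
  c56 : ∀ s t, ⁅x5 s, x6 t⁆ = 1

/-- a homomorphism from an additive parametrisation -/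
def hom {A S : Type*} [AddGroup A] [Group S] (f : A → S) (h : ∀ s t, f (s + t) = f s * f t) :
    Multiplicative A →* S :=
  MonoidHom.mk' (fun t => f t.toAdd) (fun s t => h s.toAdd t.toAdd)

theorem mem_hom_range {A S : Type*} [AddGroup A] [Group S] {f : A → S}
    {h : ∀ s t, f (s + t) = f s * f t} {g : S} : g ∈ (hom f h).range ↔ ∃ t, f t = g :=
  ⟨fun ⟨t, ht⟩ => ⟨t.toAdd, ht⟩, fun ⟨t, ht⟩ => ⟨Multiplicative.ofAdd t, ht⟩⟩

namespace HexPos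

variable {φ : K ≃ₐ[F] K} {S : Type*} [Group S]

/-- The positive root groups. -/
def X (P : HexPos φ S) : ℕ → Subgroup S
  | 1 => (hom P.x1 P.add1).range
  | 2 => (hom P.x2 P.add2).range
  | 3 => (hom P.x3 P.add3).range
  | 4 => (hom P.x4 P.add4).range
  | 5 => (hom P.x5 P.add5).range
  | 6 => (hom P.x6 P.add6).range
  | _ => ⊥

variable (P : HexPos φ S)

theorem mem_X1 {g : S} : g ∈ P.X 1 ↔ ∃ t, P.x1 t = g := mem_hom_range
theorem mem_X2 {g : S} : g ∈ P.X 2 ↔ ∃ t, P.x2 t = g := mem_hom_range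
theorem mem_X3 {g : S} : g ∈ P.X 3 ↔ ∃ t, P.x3 t = g := mem_hom_range
theorem mem_X4 {g : S} : g ∈ P.X 4 ↔ ∃ t, P.x4 t = g := mem_hom_range
theorem mem_X5 {g : S} : g ∈ P.X 5 ↔ ∃ t, P.x5 t = g := mem_hom_range
theorem mem_X6 {g : S} : g ∈ P.X 6 ↔ ∃ t, P.x6 t = g := mem_hom_range

theorem x1_mem (t : K) : P.x1 t ∈ P.X 1 := P.mem_X1.2 ⟨t, rfl⟩
theorem x2_mem (t : F) : P.x2 t ∈ P.X 2 := P.mem_X2.2 ⟨t, rfl⟩
theorem x3_mem (t : K) : P.x3 t ∈ P.X 3 := P.mem_X3.2 ⟨t, rfl⟩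
theorem x4_mem (t : F) : P.x4 t ∈ P.X 4 := P.mem_X4.2 ⟨t, rfl⟩
theorem x5_mem (t : K) : P.x5 t ∈ P.X 5 := P.mem_X5.2 ⟨t, rfl⟩
theorem x6_mem (t : F) : P.x6 t ∈ P.X 6 := P.mem_X6.2 ⟨t, rfl⟩

theorem mem_sup {k l r : ℕ} (h1 : k < r) (h2 : r < l) {g : S} (hg : g ∈ P.X r) :
    g ∈ ⨆ r ∈ Set.Ioo k l, P.X r :=
  (le_iSup₂_of_le (f := fun r (_ : r ∈ Set.Ioo k l) => P.X r) r ⟨h1, h2⟩ le_rfl) hg

/-- The commutator relations. -/
theorem comm (k l : ℕ) (h1 : 1 ≤ k) (h2 : k < l) (h3 : l ≤ 6) : ∀ x ∈ P.X k, ∀ y ∈ P.X l,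
    ⁅x, y⁆ ∈ ⨆ r ∈ Set.Ioo k l, P.X r := by
  intro x hx y hy
  have hl : l = 2 ∨ l = 3 ∨ l = 4 ∨ l = 5 ∨ l = 6 := by omega
  rcases hl with rfl | rfl | rfl | rfl | rfl
  · obtain rfl : k = 1 := by omega
    obtain ⟨s, rfl⟩ := P.mem_X1.1 hx
    obtain ⟨t, rfl⟩ := P.mem_X2.1 hy
    rw [P.c12]; exact one_mem _
  · have hk : k = 1 ∨ k = 2 := by omega
    obtain ⟨t, rfl⟩ := P.mem_X3.1 hy
    rcases hk with rfl | rfl
    · obtain ⟨s, rfl⟩ := P.mem_X1.1 hx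
      rw [P.r13]
      exact P.mem_sup (by norm_num) (by norm_num) (P.x2_mem _)
    · obtain ⟨s, rfl⟩ := P.mem_X2.1 hx
      rw [P.c23]; exact one_mem _
  · have hk : k = 1 ∨ k = 2 ∨ k = 3 := by omega
    obtain ⟨t, rfl⟩ := P.mem_X4.1 hy
    rcases hk with rfl | rfl | rfl
    · obtain ⟨s, rfl⟩ := P.mem_X1.1 hx
      rw [P.c14]; exact one_mem _
    · obtain ⟨s, rfl⟩ := P.mem_X2.1 hx
      rw [P.c24]; exact one_mem _
    · obtain ⟨s, rfl⟩ := P.mem_X3.1 hx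
      rw [P.c34]; exact one_mem _
  · have hk : k = 1 ∨ k = 2 ∨ k = 3 ∨ k = 4 := by omega
    obtain ⟨t, rfl⟩ := P.mem_X5.1 hy
    rcases hk with rfl | rfl | rfl | rfl
    · obtain ⟨s, rfl⟩ := P.mem_X1.1 hx
      rw [P.r15]
      exact mul_mem (mul_mem (P.mem_sup (by norm_num) (by norm_num) (P.x2_mem _))
        (P.mem_sup (by norm_num) (by norm_num) (P.x3_mem _)))
        (P.mem_sup (by norm_num) (by norm_num) (P.x4_mem _))
    · obtain ⟨s, rfl⟩ := P.mem_X2.1 hx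
      rw [P.c25]; exact one_mem _
    · obtain ⟨s, rfl⟩ := P.mem_X3.1 hx
      rw [P.r35]
      exact P.mem_sup (by norm_num) (by norm_num) (P.x4_mem _)
    · obtain ⟨s, rfl⟩ := P.mem_X4.1 hx
      rw [P.c45]; exact one_mem _
  · have hk : k = 1 ∨ k = 2 ∨ k = 3 ∨ k = 4 ∨ k = 5 := by omega
    obtain ⟨t, rfl⟩ := P.mem_X6.1 hy
    rcases hk with rfl | rfl | rfl | rfl | rfl
    · obtain ⟨s, rfl⟩ := P.mem_X1.1 hx
      rw [P.r16]
      exact mul_mem (mul_mem (mul_mem (P.mem_sup (by norm_num) (by norm_num) (P.x2_mem _))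
        (P.mem_sup (by norm_num) (by norm_num) (P.x3_mem _)))
        (P.mem_sup (by norm_num) (by norm_num) (P.x4_mem _)))
        (P.mem_sup (by norm_num) (by norm_num) (P.x5_mem _))
    · obtain ⟨s, rfl⟩ := P.mem_X2.1 hx
      rw [P.r26]
      exact P.mem_sup (by norm_num) (by norm_num) (P.x4_mem _)
    · obtain ⟨s, rfl⟩ := P.mem_X3.1 hx
      rw [P.c36]; exact one_mem _
    · obtain ⟨s, rfl⟩ := P.mem_X4.1 hx
      rw [P.c46]; exact one_mem _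
    · obtain ⟨s, rfl⟩ := P.mem_X5.1 hx
      rw [P.c56]; exact one_mem _

theorem comm_prod {S S' : Type*} [Group S] [Group S'] (a b : S) (a' b' : S') :
    ⁅(a, a'), (b, b')⁆ = (⁅a, b⁆, ⁅a', b'⁆) := rfl

/-- The product of two packages. -/
def prod {S' : Type*} [Group S'] (P : HexPos φ S) (P' : HexPos φ S') : HexPos φ (S × S') where
  x1 t := (P.x1 t, P'.x1 t)
  x2 t := (P.x2 t, P'.x2 t)
  x3 t := (P.x3 t, P'.x3 t)
  x4 t := (P.x4 t, P'.x4 t)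
  x5 t := (P.x5 t, P'.x5 t)
  x6 t := (P.x6 t, P'.x6 t)
  add1 s t := by rw [P.add1, P'.add1]; rfl
  add2 s t := by rw [P.add2, P'.add2]; rfl
  add3 s t := by rw [P.add3, P'.add3]; rfl
  add4 s t := by rw [P.add4, P'.add4]; rfl
  add5 s t := by rw [P.add5, P'.add5]; rfl
  add6 s t := by rw [P.add6, P'.add6]; rfl
  inj1 t h := P.inj1 t (congrArg Prod.fst h)
  inj2 t h := P.inj2 t (congrArg Prod.fst h)
  inj3 t h := P.inj3 t (congrArg Prod.fst h)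
  inj4 t h := P.inj4 t (congrArg Prod.fst h)
  inj5 t h := P.inj5 t (congrArg Prod.fst h)
  inj6 t h := P.inj6 t (congrArg Prod.fst h)
  r13 s t := by rw [comm_prod, P.r13, P'.r13]
  r35 s t := by rw [comm_prod, P.r35, P'.r35]
  r26 s t := by rw [comm_prod, P.r26, P'.r26]
  r15 s t := by rw [comm_prod, P.r15, P'.r15]; rfl
  r16 s t := by rw [comm_prod, P.r16, P'.r16]; rfl
  c12 s t := by rw [comm_prod, P.c12, P'.c12]; rfl
  c14 s t := by rw [comm_prod, P.c14, P'.c14]; rfl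
  c23 s t := by rw [comm_prod, P.c23, P'.c23]; rfl
  c24 s t := by rw [comm_prod, P.c24, P'.c24]; rfl
  c25 s t := by rw [comm_prod, P.c25, P'.c25]; rfl
  c34 s t := by rw [comm_prod, P.c34, P'.c34]; rfl
  c36 s t := by rw [comm_prod, P.c36, P'.c36]; rfl
  c45 s t := by rw [comm_prod, P.c45, P'.c45]; rfl
  c46 s t := by rw [comm_prod, P.c46, P'.c46]; rfl
  c56 s t := by rw [comm_prod, P.c56, P'.c56]; rfl

theorem aux_mem {A G G' : Type*} [AddGroup A] [Group G] [Group G'] {f : A → G} {f' : A → G'}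
    {h : ∀ s t, (fun t => (f t, f' t)) (s + t) = (fun t => (f t, f' t)) s * (fun t => (f t, f' t)) t}
    (x : G) (y : G') : (x, y) ∈ (hom (fun t => (f t, f' t)) h).range ↔ ∃ t, f t = x ∧ f' t = y := by
  rw [mem_hom_range]
  constructor
  · rintro ⟨t, ht⟩
    exact ⟨t, congrArg Prod.fst ht, congrArg Prod.snd ht⟩
  · rintro ⟨t, rfl, rfl⟩
    exact ⟨t, rfl⟩

/-- Two packages give a family of graphs. -/
theorem fam {G G' : Type*} [Group G] [Group G'] (P : HexPos φ G) (P' : HexPos φ G') {c : R2 6 G}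
    {c' : R2 6 G'} (hX : ∀ k, 1 ≤ k → k ≤ 6 → c.X k = P.X k)
    (hX' : ∀ k, 1 ≤ k → k ≤ 6 → c'.X k = P'.X k) : Fam c c' (P.prod P').X := by
  have key : ∀ k, 1 ≤ k → k ≤ 6 → ∀ x y, (x, y) ∈ (P.prod P').X k →
      (x ∈ P.X k ∧ y ∈ P'.X k) ∧ (x = 1 → y = 1) ∧ (y = 1 → x = 1) := by
    intro k h1 h2 x y h
    have hk : k = 1 ∨ k = 2 ∨ k = 3 ∨ k = 4 ∨ k = 5 ∨ k = 6 := by omega
    rcases hk with rfl | rfl | rfl | rfl | rfl | rfl
    · obtain ⟨t, rfl, rfl⟩ := (aux_mem x y).1 h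
      refine ⟨⟨P.x1_mem t, P'.x1_mem t⟩, fun e => ?_, fun e => ?_⟩
      · rw [P.inj1 t e]; simpa using P'.add1 0 0
      · rw [P'.inj1 t e]; simpa using P.add1 0 0
    · obtain ⟨t, rfl, rfl⟩ := (aux_mem x y).1 h
      refine ⟨⟨P.x2_mem t, P'.x2_mem t⟩, fun e => ?_, fun e => ?_⟩
      · rw [P.inj2 t e]; simpa using P'.add2 0 0
      · rw [P'.inj2 t e]; simpa using P.add2 0 0
    · obtain ⟨t, rfl, rfl⟩ := (aux_mem x y).1 h
      refine ⟨⟨P.x3_mem t, P'.x3_mem t⟩, fun e => ?_, fun e => ?_⟩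
      · rw [P.inj3 t e]; simpa using P'.add3 0 0
      · rw [P'.inj3 t e]; simpa using P.add3 0 0
    · obtain ⟨t, rfl, rfl⟩ := (aux_mem x y).1 h
      refine ⟨⟨P.x4_mem t, P'.x4_mem t⟩, fun e => ?_, fun e => ?_⟩
      · rw [P.inj4 t e]; simpa using P'.add4 0 0
      · rw [P'.inj4 t e]; simpa using P.add4 0 0
    · obtain ⟨t, rfl, rfl⟩ := (aux_mem x y).1 h
      refine ⟨⟨P.x5_mem t, P'.x5_mem t⟩, fun e => ?_, fun e => ?_⟩
      · rw [P.inj5 t e]; simpa using P'.add5 0 0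
      · rw [P'.inj5 t e]; simpa using P.add5 0 0
    · obtain ⟨t, rfl, rfl⟩ := (aux_mem x y).1 h
      refine ⟨⟨P.x6_mem t, P'.x6_mem t⟩, fun e => ?_, fun e => ?_⟩
      · rw [P.inj6 t e]; simpa using P'.add6 0 0
      · rw [P'.inj6 t e]; simpa using P.add6 0 0
  refine ⟨fun k h1 h2 x y h => ?_, fun k h1 h2 x hx => ?_, fun k h1 h2 y hy => ?_,
    fun k h1 h2 y h => (key k h1 h2 1 y h).2.1 rfl, fun k h1 h2 x h => (key k h1 h2 x 1 h).2.2 rfl,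
    (P.prod P').comm⟩
  · rw [hX k h1 h2, hX' k h1 h2]
    exact (key k h1 h2 x y h).1
  · rw [hX k h1 h2] at hx
    have hk : k = 1 ∨ k = 2 ∨ k = 3 ∨ k = 4 ∨ k = 5 ∨ k = 6 := by omega
    rcases hk with rfl | rfl | rfl | rfl | rfl | rfl
    · obtain ⟨t, rfl⟩ := P.mem_X1.1 hx
      exact ⟨_, (P.prod P').x1_mem t⟩
    · obtain ⟨t, rfl⟩ := P.mem_X2.1 hx
      exact ⟨_, (P.prod P').x2_mem t⟩
    · obtain ⟨t, rfl⟩ := P.mem_X3.1 hx
      exact ⟨_, (P.prod P').x3_mem t⟩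
    · obtain ⟨t, rfl⟩ := P.mem_X4.1 hx
      exact ⟨_, (P.prod P').x4_mem t⟩
    · obtain ⟨t, rfl⟩ := P.mem_X5.1 hx
      exact ⟨_, (P.prod P').x5_mem t⟩
    · obtain ⟨t, rfl⟩ := P.mem_X6.1 hx
      exact ⟨_, (P.prod P').x6_mem t⟩
  · rw [hX' k h1 h2] at hy
    have hk : k = 1 ∨ k = 2 ∨ k = 3 ∨ k = 4 ∨ k = 5 ∨ k = 6 := by omega
    rcases hk with rfl | rfl | rfl | rfl | rfl | rfl
    · obtain ⟨t, rfl⟩ := P'.mem_X1.1 hy
      exact ⟨_, (P.prod P').x1_mem t⟩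
    · obtain ⟨t, rfl⟩ := P'.mem_X2.1 hy
      exact ⟨_, (P.prod P').x2_mem t⟩
    · obtain ⟨t, rfl⟩ := P'.mem_X3.1 hy
      exact ⟨_, (P.prod P').x3_mem t⟩
    · obtain ⟨t, rfl⟩ := P'.mem_X4.1 hy
      exact ⟨_, (P.prod P').x4_mem t⟩
    · obtain ⟨t, rfl⟩ := P'.mem_X5.1 hy
      exact ⟨_, (P.prod P').x5_mem t⟩
    · obtain ⟨t, rfl⟩ := P'.mem_X6.1 hy
      exact ⟨_, (P.prod P').x6_mem t⟩

/-- **Identification** of two simple groups with hexagonal root group sequences of the same type. -/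
theorem ident {G G' : Type*} [Group G] [Group G'] [IsSimpleGroup G] [IsSimpleGroup G'] (P : HexPos φ G)
    (P' : HexPos φ G') {c : R2 6 G} {c' : R2 6 G'} (hX : ∀ k, 1 ≤ k → k ≤ 6 → c.X k = P.X k)
    (hX' : ∀ k, 1 ≤ k → k ≤ 6 → c'.X k = P'.X k) (hgen : c.U ⊔ (c.XI' ⊔ c.XJ') = ⊤)
    (hgen' : c'.U ⊔ (c'.XI' ⊔ c'.XJ') = ⊤) (hU : c.U ≠ ⊤) (hU' : c'.U ≠ ⊤) : Nonempty (G ≃* G') := by
  refine ident_of_simple (by norm_num) hgen hgen' hU hU' ?_ (P.fam P' hX hX')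
  intro h
  have h1 : P.x1 1 ∈ c.U := c.X_le (le_refl 1) (by norm_num) (by
    rw [hX 1 le_rfl (by norm_num)]; exact P.x1_mem 1)
  rw [h] at h1
  have h2 : P.x1 1 = 1 := h1
  exact one_ne_zero (P.inj1 1 h2)

end HexPos

end Cfsg.Agent.Hexagon.Pos
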