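import Cfsg.Agent.RootSeq.UTop
import Cfsg.Agent.Hexagon.Pos

/-!
# Identification theorem for hexagonal root group sequences, nonabelian simple groups

`HexRoot φ G`: a group `G` generated by the root groups of a root datum `c : RGDZ 6 G` whose positive root groups
are those of a package `P : HexPos φ G`.  `ident`: two nonabelian simple groups with such data over the same
`φ` are isomorphic.
-/

set_option autoImplicit false

namespace Cfsg.Agent.Hexagon.RootIdent

open Cfsg.Agent.TitsThree.RankTwoIdx Cfsg.Agent.TitsThree.RankTwoZ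
open Cfsg.Agent.RootSeq.Final Cfsg.Agent.RootSeq.UTop
open Cfsg.Agent.Hexagon.Pos

variable {F K : Type*} [Field F] [Field K] [Algebra F K] {φ : K ≃ₐ[F] K}

theorem hom_comm {A S : Type*} [AddCommGroup A] [Group S] {f : A → S}
    {h : ∀ s t, f (s + t) = f s * f t} : ∀ x ∈ (hom f h).range, ∀ y ∈ (hom f h).range, x * y = y * x := by
  intro x hx y hy
  obtain ⟨s, rfl⟩ := mem_hom_range.1 hx
  obtain ⟨t, rfl⟩ := mem_hom_range.1 hy
  rw [← h, ← h, add_comm]

theorem X_solvable {S : Type*} [Group S] (P : HexPos φ S) (k : ℕ) (h1 : 1 ≤ k) (h2 : k ≤ 6) :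
    Group.IsSolvable ↥(P.X k) := by
  apply solvable_of_comm
  have hk : k = 1 ∨ k = 2 ∨ k = 3 ∨ k = 4 ∨ k = 5 ∨ k = 6 := by omega
  rcases hk with rfl | rfl | rfl | rfl | rfl | rfl
  · exact hom_comm (h := P.add1)
  · exact hom_comm (h := P.add2)
  · exact hom_comm (h := P.add3)
  · exact hom_comm (h := P.add4)
  · exact hom_comm (h := P.add5)
  · exact hom_comm (h := P.add6)

/-- A package with its root datum. -/
structure HexRoot (φ : K ≃ₐ[F] K) (G : Type*) [Group G] where
  P : HexPos φ G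
  c : R2 6 G
  hX : ∀ k, 1 ≤ k → k ≤ 6 → c.X k = P.X k
  gen : c.U ⊔ (c.XI' ⊔ c.XJ') = ⊤

/-- **Identification** of two nonabelian simple groups with hexagonal data over the same field. -/
theorem ident {G G' : Type*} [Group G] [Group G'] [IsSimpleGroup G] [IsSimpleGroup G']
    (hG : ¬ IsMulCommutative G) (hG' : ¬ IsMulCommutative G') (A : HexRoot φ G) (B : HexRoot φ G') :
    Nonempty (G ≃* G') := by
  refine A.P.ident B.P A.hX B.hX A.gen B.gen (U_ne_top hG fun k h1 h2 => ?_)
    (U_ne_top hG' fun k h1 h2 => ?_)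
  · rw [A.hX k h1 h2]; exact X_solvable A.P k h1 h2
  · rw [B.hX k h1 h2]; exact X_solvable B.P k h1 h2

/-- A package and a root datum with all root groups. -/
noncomputable def HexRoot.ofRGDZ {G : Type*} [Group G] [IsSimpleGroup G] (P : HexPos φ G) (c : RGDZ 6 G)
    (hX : ∀ k : ℕ, 1 ≤ k → k ≤ 6 → c.X k = P.X k) (hgen : ⨆ k, c.X k = ⊤) : HexRoot φ G where
  P := P
  c := c.r2
  hX := hX
  gen := rgdz_gen c hgen

end Cfsg.Agent.Hexagon.RootIdent
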