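import Mathlib
/-!
# Automorphisms of order three of finite fields

`cube_aut` : if `σ ≠ 1`, `σ³ = 1` then `|E| = q³` and `σ` or `σ²` is `t ↦ t^q`.
-/

set_option autoImplicit false

namespace Cfsg.Agent.Hexagon.CubeAut

universe u

open FiniteField in
theorem cube_aut {E : Type u} [Field E] [Fintype E] (σ : E ≃+* E) (hc : ∀ a, σ (σ (σ a)) = a)
    (h1 : ∃ a, σ a ≠ a) : ∃ q : ℕ, IsPrimePow q ∧ Fintype.card E = q ^ 3 ∧
      ((∀ a, σ a = a ^ q) ∨ ∀ a, σ (σ a) = a ^ q) := by
  obtain ⟨p, hchar⟩ := CharP.exists E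
  have hp : p.Prime := CharP.char_is_prime E p
  have := Fact.mk hp
  let : Algebra (ZMod p) E := ZMod.algebra E p
  have : Module.Finite (ZMod p) E := Module.Finite.of_finite
  have : Algebra.IsAlgebraic (ZMod p) E := Algebra.IsAlgebraic.of_finite _ _
  have hcomm : ∀ r : ZMod p, σ (algebraMap (ZMod p) E r) = algebraMap (ZMod p) E r := by
    intro r
    have := Subsingleton.elim ((σ : E →+* E).comp (algebraMap (ZMod p) E)) (algebraMap (ZMod p) E)
    exact congrFun (congrArg DFunLike.coe this) r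
  let s : E ≃ₐ[ZMod p] E := AlgEquiv.ofRingEquiv (f := σ) hcomm
  have hs : ∀ a, s a = σ a := fun _ => rfl
  obtain ⟨⟨k, hk⟩, hks⟩ := (bijective_frobeniusAlgEquivOfAlgebraic_pow (ZMod p) E).2 s
  have hord := orderOf_frobeniusAlgEquivOfAlgebraic (ZMod p) E
  set n := Module.finrank (ZMod p) E with hn
  set φ := frobeniusAlgEquivOfAlgebraic (ZMod p) E with hφ
  have hks' : φ ^ k = s := hks
  have hφk : ∀ (j : ℕ) (a : E), (φ ^ j) a = a ^ p ^ j := by
    intro j a
    rw [AlgEquiv.coe_pow, coe_frobeniusAlgEquivOfAlgebraic_iterate, ZMod.card]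
  have hcard : Fintype.card E = p ^ n := by
    rw [Module.card_eq_pow_finrank (K := ZMod p) (V := E), ZMod.card]
  have h3 : s ^ 3 = 1 := by
    ext a
    have : (s ^ 3) a = s (s (s a)) := rfl
    rw [this, hs, hs, hs, hc]
    rfl
  have hdvd : n ∣ 3 * k := by
    rw [← hord]
    apply orderOf_dvd_of_pow_eq_one
    rw [mul_comm, pow_mul, hks', h3]
  have hk0 : k ≠ 0 := by
    rintro rfl
    obtain ⟨a, ha⟩ := h1
    apply ha
    rw [← hs, ← hks', pow_zero]
    rfl
  obtain ⟨j, hj⟩ := hdvd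
  have hj3 : j < 3 := by
    by_contra h
    have : n * 3 ≤ n * j := Nat.mul_le_mul_left n (by omega)
    omega
  have hj0 : j ≠ 0 := by
    rintro rfl
    omega
  have hj12 : j = 1 ∨ j = 2 := by omega
  rcases hj12 with rfl | rfl
  · refine ⟨p ^ k, hp.isPrimePow.pow hk0, ?_, Or.inl fun a => ?_⟩
    · rw [hcard, ← pow_mul]
      congr 1
      omega
    · rw [← hs, ← hks', hφk]
  · obtain ⟨i, rfl⟩ : ∃ i, k = 2 * i := ⟨k / 2, by omega⟩
    have hn3 : n = 3 * i := by omega
    refine ⟨p ^ i, hp.isPrimePow.pow (by omega), ?_, Or.inr fun a => ?_⟩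
    · rw [hcard, ← pow_mul, hn3]
      congr 1
      omega
    · have e : σ (σ a) = (φ ^ (2 * (2 * i))) a := by
        rw [two_mul (2 * i), pow_add, hks']
        rfl
      have e2 : φ ^ (2 * (2 * i)) = φ ^ i := by
        have e3 : 2 * (2 * i) = i + n := by omega
        rw [e3, pow_add, ← hord, pow_orderOf_eq_one, mul_one]
      rw [e, e2, hφk]

end Cfsg.Agent.Hexagon.CubeAut
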