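import Cfsg.Agent.Hexagon.G2Pos
import Cfsg.Agent.S1055

/-!
# The root datum `RGDZ 6` of `chevG2.group F` and the identification theorem for `G₂`
-/

set_option autoImplicit false

namespace Cfsg.Agent.Hexagon.G2Side

open Cfsg.Lie
open Cfsg.Agent.ChevalleyStructure.Elts Cfsg.Agent.ChevalleyStructure.NConj
open Cfsg.Agent.ChevalleyStructure.BNChev
open Cfsg.Agent.Hexagon.Pos Cfsg.Agent.Hexagon.G2Pos
open Cfsg.Agent.TitsThree.RankTwoIdx Cfsg.Agent.TitsThree.RankTwoZ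
open scoped commutatorElement

universe u

variable {F : Type u} [Field F]

/-- the root with number `k` in the cyclic order -/
def tab (k : ZMod (2 * 6)) : ℕ := [5, 7, 10, 9, 11, 8, 6, 4, 1, 2, 0, 3].getD k.val 0

theorem tab_lt : ∀ k : ZMod (2 * 6), tab k < 12 := by decide +kernel

theorem tab_I : ∀ k : ZMod (2 * 6), chevG2.reflectRoot 0 (tab k) = tab (((6 : ℕ) : ZMod (2 * 6)) + 2 - k) := by
  decide +kernel

theorem tab_J : ∀ k : ZMod (2 * 6), chevG2.reflectRoot 1 (tab k) = tab (((6 : ℕ) : ZMod (2 * 6)) - k) := by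
  decide +kernel

theorem tab_surj : ∀ r < 12, ∃ k : ZMod (2 * 6), tab k = r := by decide +kernel

/-- The root groups. -/
def X (F : Type u) [Field F] (k : ZMod (2 * 6)) : Subgroup ↥(chevG2.group F) :=
  (chevG2.rootSubgroup F (tab k)).subgroupOf (chevG2.group F)

theorem mem_X {k : ZMod (2 * 6)} {g : ↥(chevG2.group F)} : g ∈ X F k ↔ ∃ t, g = xs (tab k) t := by
  unfold X
  rw [Subgroup.mem_subgroupOf, mem_rootSubgroup_iff hG2]
  constructor
  · rintro ⟨t, ht⟩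
    exact ⟨t, Subtype.ext ht⟩
  · rintro ⟨t, ht⟩
    exact ⟨t, congrArg Subtype.val ht⟩

theorem maps_of {g : ↥(chevG2.group F)} {f : ZMod (2 * 6) → ZMod (2 * 6)}
    (h1 : ∀ k t, ∃ u, (g : GL chevG2.Idx F) * xG hG2 (tab k) t * (g : GL chevG2.Idx F)⁻¹ = xG hG2 (tab (f k)) u)
    (h2 : ∀ k t, ∃ u, (g : GL chevG2.Idx F)⁻¹ * xG hG2 (tab (f k)) t * (g : GL chevG2.Idx F) = xG hG2 (tab k) u) :
    Maps (X F) g f := by
  intro k x
  rw [mem_X, mem_X]
  constructor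
  · rintro ⟨t, ht⟩
    obtain ⟨u, hu⟩ := h2 k t
    refine ⟨u, Subtype.ext ?_⟩
    have h3 := congrArg (Subtype.val) ht
    simp only [Subgroup.coe_mul, Subgroup.coe_inv, coe_xs] at h3
    rw [coe_xs, ← hu, ← h3]
    group
  · rintro ⟨t, rfl⟩
    obtain ⟨u, hu⟩ := h1 k t
    refine ⟨u, Subtype.ext ?_⟩
    simp only [Subgroup.coe_mul, Subgroup.coe_inv, coe_xs]
    exact hu

/-- conjugation by `n_{p_i}(t)` -/
theorem nG_conj {i : ℕ} (hi : i < 2) {t : F} (ht : t ≠ 0) {s : ℕ} (hs : s < 12) (u : F) :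
    ∃ v, nG hG2 (chevG2.simple i) t * xG hG2 s u * (nG hG2 (chevG2.simple i) t)⁻¹ =
      xG hG2 (chevG2.reflectRoot i s) v := by
  obtain ⟨η, -, h1, -⟩ := conj_x (F := F) hG2 (show i < chevG2.rank from hi) (show s < chevG2.nroots from hs)
  have hr : chevG2.simple i < chevG2.nroots := by
    have h : ∀ i < 2, chevG2.simple i < chevG2.nroots := by decide +kernel
    exact h i hi
  have hs' : chevG2.reflectRoot i s < chevG2.nroots := by
    have h : ∀ i < 2, ∀ s < 12, chevG2.reflectRoot i s < chevG2.nroots := by decide +kernel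
    exact h i hi s hs
  obtain ⟨c, -, h2⟩ := diagonal_conj hG2 (hG_mem_diagonal hG2 hr ht) hs'
  refine ⟨c * (η * u), ?_⟩
  rw [nG_eq, ← h2, ← h1]
  group

theorem maps_n {i : ℕ} (hi : i < 2) {f : ZMod (2 * 6) → ZMod (2 * 6)}
    (hf : ∀ k, chevG2.reflectRoot i (tab k) = tab (f k)) (hff : ∀ k, f (f k) = k) {t : F} (ht : t ≠ 0)
    {g : ↥(chevG2.group F)} (hg : (g : GL chevG2.Idx F) = nG hG2 (chevG2.simple i) t) : Maps (X F) g f := by
  refine maps_of (fun k u => ?_) (fun k u => ?_)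
  · rw [hg, ← hf]
    exact nG_conj hi ht (tab_lt k) u
  · have h1 : (g : GL chevG2.Idx F)⁻¹ = nG hG2 (chevG2.simple i) (-t) := by rw [hg, nG_inv]
    have h2 : (g : GL chevG2.Idx F) = (nG hG2 (chevG2.simple i) (-t))⁻¹ := by rw [← h1, inv_inv]
    rw [h1, h2]
    obtain ⟨v, hv⟩ := nG_conj hi (neg_ne_zero.2 ht) (tab_lt (f k)) u
    rw [hf, hff] at hv
    exact ⟨v, hv⟩

theorem X_eq : ∀ k : ℕ, 1 ≤ k → k ≤ 6 → X F (k : ZMod (2 * 6)) = (pos F).X k := by
  intro k h1 h2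
  have key : ∀ (r : ℕ) (h : ∀ s t, (xs r (s + t) : ↥(chevG2.group F)) = xs r s * xs r t),
      tab (k : ZMod (2 * 6)) = r → X F (k : ZMod (2 * 6)) = (hom (xs r) h).range := by
    intro r h hr
    ext g
    rw [mem_X, mem_hom_range, hr]
    exact ⟨fun ⟨t, ht⟩ => ⟨t, ht.symm⟩, fun ⟨t, ht⟩ => ⟨t, ht.symm⟩⟩
  have hk : k = 1 ∨ k = 2 ∨ k = 3 ∨ k = 4 ∨ k = 5 ∨ k = 6 := by omega
  rcases hk with rfl | rfl | rfl | rfl | rfl | rfl
  · exact key 7 _ (by decide +kernel)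
  · exact key 10 _ (by decide +kernel)
  · exact key 9 _ (by decide +kernel)
  · exact key 11 _ (by decide +kernel)
  · exact key 8 _ (by decide +kernel)
  · exact key 6 _ (by decide +kernel)

theorem ne_bot (k : ZMod (2 * 6)) : X F k ≠ ⊥ := by
  intro h
  have h1 : xs (tab k) (1 : F) ∈ X F k := mem_X.2 ⟨1, rfl⟩
  rw [h] at h1
  exact one_ne_zero (xs_eq_one (tab_lt k) (1 : F) h1)

/-- The element `x_r(t) x_{-r}(s) x_r(t)`, `t = -s⁻¹`. -/
theorem xyx_eq {r r' : ℕ} (hr : chevG2.neg r = r') {s : F} :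
    ((xs r (-s⁻¹) * xs r' s * xs r (-s⁻¹) : ↥(chevG2.group F)) : GL chevG2.Idx F) = nG hG2 r (-s⁻¹) := by
  rw [nG_def, hr, Subgroup.coe_mul, Subgroup.coe_mul, coe_xs, coe_xs, inv_neg, neg_neg, inv_inv, mul_assoc]

/-- **The root datum of `chevG2.group F`.** -/
def rgdz (F : Type u) [Field F] : RGDZ 6 ↥(chevG2.group F) where
  X := X F
  one_le := by norm_num
  comm := by
    intro k l h1 h2 h3 x hx y hy
    have e : (⨆ r ∈ Set.Ioo k l, X F ((r : ℕ) : ZMod (2 * 6))) = ⨆ r ∈ Set.Ioo k l, (pos F).X r := by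
      refine iSup_congr fun r => iSup_congr fun hr => ?_
      have := hr.1
      have := hr.2
      exact X_eq r (by omega) (by omega)
    rw [e]
    refine (pos F).comm k l h1 h2 h3 x ?_ y ?_
    · rw [← X_eq k h1 (by omega)]; exact hx
    · rw [← X_eq l (by omega) h3]; exact hy
  muI := by
    intro a ha h1
    obtain ⟨s, rfl⟩ := mem_X.1 ha
    have e : tab (((6 : ℕ) : ZMod (2 * 6)) + 1) = 4 := by decide +kernel
    rw [e] at h1 ⊢
    have hs : s ≠ 0 := by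
      rintro rfl
      exact h1 (Subtype.ext (xG_zero hG2 4))
    have h2 : xs 7 (-s⁻¹) ∈ X F 1 := mem_X.2 ⟨_, by
      have e' : tab 1 = 7 := by decide +kernel
      rw [e']⟩
    refine ⟨_, h2, _, h2, ?_⟩
    refine maps_n (i := 0) (t := -s⁻¹) (by norm_num) (fun k => tab_I k) (fun k => by ring)
      (neg_ne_zero.2 (inv_ne_zero hs)) ?_
    exact xyx_eq (by decide +kernel)
  muJ := by
    intro a ha h1
    obtain ⟨s, rfl⟩ := mem_X.1 ha
    have e : tab 0 = 5 := by decide +kernel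
    rw [e] at h1 ⊢
    have hs : s ≠ 0 := by
      rintro rfl
      exact h1 (Subtype.ext (xG_zero hG2 5))
    have h2 : xs 6 (-s⁻¹) ∈ X F ((6 : ℕ) : ZMod (2 * 6)) := mem_X.2 ⟨_, by
      have e' : tab ((6 : ℕ) : ZMod (2 * 6)) = 6 := by decide +kernel
      rw [e']⟩
    refine ⟨_, h2, _, h2, ?_⟩
    refine maps_n (i := 1) (t := -s⁻¹) (by norm_num) (fun k => tab_J k) (fun k => by ring)
      (neg_ne_zero.2 (inv_ne_zero hs)) ?_
    exact xyx_eq (by decide +kernel)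
  neI := ne_bot _
  neJ := ne_bot _

/-- The root groups generate. -/
theorem gen (F : Type u) [Field F] : ⨆ k, (rgdz F).X k = ⊤ := by
  rw [eq_top_iff]
  have h1 : chevG2.group F ≤ (⨆ k, (rgdz F).X k).map (chevG2.group F).subtype := by
    rw [group_le_iff hG2]
    intro r hr t
    obtain ⟨k, rfl⟩ := tab_surj r hr
    exact ⟨xs (tab k) t, (le_iSup (rgdz F).X k) (mem_X.2 ⟨t, rfl⟩), rfl⟩
  intro g _
  obtain ⟨g', hg', e⟩ := h1 g.2
  have h2 : g' = g := Subtype.ext e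
  rw [← h2]
  exact hg'

end Cfsg.Agent.Hexagon.G2Side
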