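import Cfsg.Agent.Hexagon.RootIdent
import Cfsg.Agent.Hexagon.G2Side

/-!
# Identification theorem for `G₂`

A nonabelian simple group with hexagonal root data `HexRoot` over `F`, `φ = 1`, is `chevG2.group F`.
-/

set_option autoImplicit false

namespace Cfsg.Agent.Hexagon.G2Ident

open Cfsg.Lie
open Cfsg.Agent.Hexagon.Pos Cfsg.Agent.Hexagon.RootIdent Cfsg.Agent.Hexagon.G2Pos Cfsg.Agent.Hexagon.G2Side

universe u v

variable {F : Type u} [Field F]

/-- The data of `chevG2.group F`. -/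
noncomputable def root (F : Type u) [Field F] (hF : ∃ a : F, a ≠ 0 ∧ a ≠ 1) :
    HexRoot (idF F) ↥(chevG2.group F) :=
  haveI := (Cfsg.Agent.S1055.result hF).1
  HexRoot.ofRGDZ (pos F) (rgdz F) X_eq (gen F)

/-- **Identification theorem for `G₂(F)`**. -/
theorem ident {G : Type v} [Group G] [IsSimpleGroup G] (hG : ¬ IsMulCommutative G)
    (hF : ∃ a : F, a ≠ 0 ∧ a ≠ 1) (A : HexRoot (idF F) G) : Nonempty (G ≃* ↥(chevG2.group F)) := by
  obtain ⟨h1, h2⟩ := Cfsg.Agent.S1055.result hF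
  exact RootIdent.ident hG h2 A (root F hF)

end Cfsg.Agent.Hexagon.G2Ident
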