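import Cfsg.Agent.SplitTwo.HexDefs
import Cfsg.Agent.Hexagon.RootIdent

/-!
# `HexPar σ` (signs of Tits–Weiss) ⟹ `HexPos φ`

The relations of `SplitTwo.HexRel` (commutators `a⁻¹ b⁻¹ a b`, even root groups parametrised by the fixed elements of
`σ` in `K`) give the package `HexPos φ` (commutators `a b a⁻¹ b⁻¹`, even root groups parametrised by `F`), with
`x5`, `x6` replaced by `x5 (-t)`, `x6 (-t)`.
-/

set_option autoImplicit false

namespace Cfsg.Agent.Hexagon.PosOfRel

open Cfsg.Agent.SplitTwo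
open Cfsg.Agent.Hex.Defs (sh cr nm tr)
open Cfsg.Agent.Hexagon.Pos
open scoped commutatorElement

variable {F K : Type*} [Field F] [Field K] [Algebra F K] {φ : K ≃ₐ[F] K} {σ : K ≃+* K}
variable {G : Type*} [Group G]

theorem kk_comm (a b : G) : ⁅a, b⁆ = kk a⁻¹ b⁻¹ := by
  rw [kk, commutatorElement_def, inv_inv, inv_inv]

section AddHom

theorem zero_of_add {f : K → G} (h : ∀ a b, f (a + b) = f a * f b) : f 0 = 1 := by
  have := h 0 0
  rw [add_zero] at this
  exact left_eq_mul.1 this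

theorem neg_of_add {f : K → G} (h : ∀ a b, f (a + b) = f a * f b) (a : K) : (f a)⁻¹ = f (-a) := by
  rw [inv_eq_iff_mul_eq_one, ← h, add_neg_cancel, zero_of_add h]

theorem zero_of_add' {f : K → G} (h : ∀ a b, σ a = a → σ b = b → f (a + b) = f a * f b) : f 0 = 1 := by
  have := h 0 0 (map_zero σ) (map_zero σ)
  rw [add_zero] at this
  exact left_eq_mul.1 this

theorem neg_of_add' {f : K → G} (h : ∀ a b, σ a = a → σ b = b → f (a + b) = f a * f b) {a : K}
    (ha : σ a = a) : (f a)⁻¹ = f (-a) := by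
  rw [inv_eq_iff_mul_eq_one, ← h _ _ ha (by rw [map_neg, ha]), add_neg_cancel, zero_of_add' h]

end AddHom

section Conv

variable (hP : Pair φ) (hσ : ∀ t, σ t = φ t) {x1 x2 x3 x4 x5 x6 : K → G}
  (R : HexRel σ x1 x2 x3 x4 x5 x6)

include hσ in
theorem fixA (s : F) : σ (algebraMap F K s) = algebraMap F K s := by rw [hσ]; exact φ.commutes s

include hP in
theorem tr_eq (hσ : ∀ t, σ t = φ t) (a b : K) : algebraMap F K (tr φ (a * b)) = trc σ a b := by
  rw [algebraMap_tr hP, trc]; simp only [hσ]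

include hP in
theorem nm_eq (hσ : ∀ t, σ t = φ t) (a : K) : algebraMap F K (nm φ a) = nrm σ a := by
  rw [algebraMap_nm hP, nrm]; simp only [hσ]

theorem sh_eq (hσ : ∀ t, σ t = φ t) (a : K) : sh φ a = shp σ a := by
  rw [sh, shp]; simp only [hσ]

theorem cr_eq (hσ : ∀ t, σ t = φ t) (a b : K) : cr φ a b = crs σ a b := by
  rw [cr, crs]; simp only [hσ]

theorem trc_neg_left (a b : K) : trc σ (-a) b = -trc σ a b := by
  simp only [trc, map_mul, map_neg]; ring

theorem trc_neg_right (a b : K) : trc σ a (-b) = -trc σ a b := by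
  simp only [trc, map_mul, map_neg]; ring

theorem shp_neg (a : K) : shp σ (-a) = shp σ a := by
  simp only [shp, map_neg]; ring

theorem nrm_neg (a : K) : nrm σ (-a) = -nrm σ a := by
  simp only [nrm, map_neg]; ring

theorem crs_neg_left (a b : K) : crs σ (-a) b = -crs σ a b := by
  simp only [crs, map_neg]; ring

theorem crs_neg_right (a b : K) : crs σ a (-b) = -crs σ a b := by
  simp only [crs, map_neg]; ring

end Conv

/-- **The package of positive relations.** -/
noncomputable def hexPos (hP : Pair φ) (hσ : ∀ t, σ t = φ t) {X : ZMod (2 * 6) → Subgroup G}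
    {x1 x2 x3 x4 x5 x6 : K → G} (h : HexPar σ X x1 x2 x3 x4 x5 x6) : HexPos φ G where
  x1 t := x1 t
  x2 s := x2 (algebraMap F K s)
  x3 t := x3 t
  x4 s := x4 (algebraMap F K s)
  x5 t := x5 (-t)
  x6 s := x6 (-algebraMap F K s)
  add1 s t := h.rel.add1 s t
  add2 s t := by rw [map_add]; exact h.rel.add2 _ _ (fixA hσ s) (fixA hσ t)
  add3 s t := h.rel.add3 s t
  add4 s t := by rw [map_add]; exact h.rel.add4 _ _ (fixA hσ s) (fixA hσ t)
  add5 s t := by rw [neg_add]; exact h.rel.add5 _ _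
  add6 s t := by
    rw [map_add, neg_add]
    exact h.rel.add6 _ _ (by rw [map_neg, fixA hσ]) (by rw [map_neg, fixA hσ])
  inj1 t e := h.inj1 _ _ (e.trans (zero_of_add h.rel.add1).symm)
  inj2 t e := by
    have := h.inj2 _ _ (fixA hσ t) (map_zero σ) (e.trans (zero_of_add' h.rel.add2).symm)
    exact (map_eq_zero (algebraMap F K)).1 this
  inj3 t e := h.inj3 _ _ (e.trans (zero_of_add h.rel.add3).symm)
  inj4 t e := by
    have := h.inj4 _ _ (fixA hσ t) (map_zero σ) (e.trans (zero_of_add' h.rel.add4).symm)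
    exact (map_eq_zero (algebraMap F K)).1 this
  inj5 t e := by
    have := h.inj5 _ _ (e.trans (zero_of_add h.rel.add5).symm)
    exact neg_eq_zero.1 this
  inj6 t e := by
    have := h.inj6 _ _ (by rw [map_neg, fixA hσ]) (map_zero σ) (e.trans (zero_of_add' h.rel.add6).symm)
    exact (map_eq_zero (algebraMap F K)).1 (neg_eq_zero.1 this)
  r13 a b := by
    rw [kk_comm, neg_of_add h.rel.add1, neg_of_add h.rel.add3, h.rel.c13, tr_eq hP hσ, trc_neg_left,
      trc_neg_right, neg_neg]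
  r35 b c := by
    rw [kk_comm, neg_of_add h.rel.add3, neg_of_add h.rel.add5, h.rel.c35, map_neg, tr_eq hP hσ, trc_neg_left,
      neg_neg]
  r26 u v := by
    rw [kk_comm, neg_of_add' h.rel.add2 (fixA hσ u),
      neg_of_add' h.rel.add6 (show σ (-algebraMap F K v) = _ by rw [map_neg, fixA hσ]),
      h.rel.c26 _ _ (by rw [map_neg, fixA hσ]) (by rw [neg_neg, fixA hσ]), map_neg, map_mul, neg_neg, neg_mul]
  r15 a b := by
    rw [kk_comm, neg_of_add h.rel.add1, neg_of_add h.rel.add5, h.rel.c15, map_neg, map_neg, tr_eq hP hσ,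
      tr_eq hP hσ, sh_eq hσ, sh_eq hσ, cr_eq hσ, shp_neg, trc_neg_left, crs_neg_left, neg_neg]
  r16 a u := by
    have hu := fixA hσ u
    rw [kk_comm, neg_of_add h.rel.add1, neg_of_add' h.rel.add6 (show σ (-algebraMap F K u) = _ by
      rw [map_neg, fixA hσ]), neg_neg, h.rel.c16 _ _ hu, map_mul, map_neg, map_mul, map_pow, nm_eq hP hσ,
      sh_eq hσ, shp_neg, nrm_neg, Algebra.smul_def, Algebra.smul_def]
    congr 1
    · congr 1
      · congr 1
        congr 1
        ring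
      · congr 1
        ring
    · congr 1
      ring
  c12 s t := by
    rw [kk_comm, neg_of_add h.rel.add1, neg_of_add' h.rel.add2 (fixA hσ t)]
    exact h.rel.c12 _ _ (by rw [map_neg, fixA hσ])
  c14 s t := by
    rw [kk_comm, neg_of_add h.rel.add1, neg_of_add' h.rel.add4 (fixA hσ t)]
    exact h.rel.c14 _ _ (by rw [map_neg, fixA hσ])
  c23 s t := by
    rw [kk_comm, neg_of_add' h.rel.add2 (fixA hσ s), neg_of_add h.rel.add3]
    exact h.rel.c23 _ _ (by rw [map_neg, fixA hσ])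
  c24 s t := by
    rw [kk_comm, neg_of_add' h.rel.add2 (fixA hσ s), neg_of_add' h.rel.add4 (fixA hσ t)]
    exact h.rel.c24 _ _ (by rw [map_neg, fixA hσ]) (by rw [map_neg, fixA hσ])
  c25 s t := by
    rw [kk_comm, neg_of_add' h.rel.add2 (fixA hσ s), neg_of_add h.rel.add5]
    exact h.rel.c25 _ _ (by rw [map_neg, fixA hσ])
  c34 s t := by
    rw [kk_comm, neg_of_add h.rel.add3, neg_of_add' h.rel.add4 (fixA hσ t)]
    exact h.rel.c34 _ _ (by rw [map_neg, fixA hσ])
  c36 s t := by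
    rw [kk_comm, neg_of_add h.rel.add3, neg_of_add' h.rel.add6 (show σ (-algebraMap F K t) = _ by
      rw [map_neg, fixA hσ])]
    exact h.rel.c36 _ _ (by rw [neg_neg, fixA hσ])
  c45 s t := by
    rw [kk_comm, neg_of_add' h.rel.add4 (fixA hσ s), neg_of_add h.rel.add5]
    exact h.rel.c45 _ _ (by rw [map_neg, fixA hσ])
  c46 s t := by
    rw [kk_comm, neg_of_add' h.rel.add4 (fixA hσ s), neg_of_add' h.rel.add6 (show σ (-algebraMap F K t) = _ by
      rw [map_neg, fixA hσ])]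
    exact h.rel.c46 _ _ (by rw [map_neg, fixA hσ]) (by rw [neg_neg, fixA hσ])
  c56 s t := by
    rw [kk_comm, neg_of_add h.rel.add5, neg_of_add' h.rel.add6 (show σ (-algebraMap F K t) = _ by
      rw [map_neg, fixA hσ])]
    exact h.rel.c56 _ _ (by rw [neg_neg, fixA hσ])

/-- The root groups are those of the package. -/
theorem hexPos_X (hP : Pair φ) (hσ : ∀ t, σ t = φ t) {X : ZMod (2 * 6) → Subgroup G}
    {x1 x2 x3 x4 x5 x6 : K → G} (h : HexPar σ X x1 x2 x3 x4 x5 x6) (k : ℕ) (h1 : 1 ≤ k) (h2 : k ≤ 6) :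
    X k = (hexPos hP hσ h).X k := by
  have hF : ∀ {a : K}, σ a = a → ∃ s : F, algebraMap F K s = a := fun {a} ha =>
    hP.fixed a (by rw [← hσ, ha])
  have hk : k = 1 ∨ k = 2 ∨ k = 3 ∨ k = 4 ∨ k = 5 ∨ k = 6 := by omega
  ext g
  rcases hk with rfl | rfl | rfl | rfl | rfl | rfl
  · rw [HexPos.mem_X1]
    exact_mod_cast h.mem1 g
  · rw [HexPos.mem_X2]
    refine Iff.trans (by exact_mod_cast h.mem2 g) ⟨?_, ?_⟩
    · rintro ⟨a, ha, e⟩
      obtain ⟨s, rfl⟩ := hF ha
      exact ⟨s, e⟩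
    · rintro ⟨s, e⟩
      exact ⟨_, fixA hσ s, e⟩
  · rw [HexPos.mem_X3]
    exact_mod_cast h.mem3 g
  · rw [HexPos.mem_X4]
    refine Iff.trans (by exact_mod_cast h.mem4 g) ⟨?_, ?_⟩
    · rintro ⟨a, ha, e⟩
      obtain ⟨s, rfl⟩ := hF ha
      exact ⟨s, e⟩
    · rintro ⟨s, e⟩
      exact ⟨_, fixA hσ s, e⟩
  · rw [HexPos.mem_X5]
    refine Iff.trans (by exact_mod_cast h.mem5 g) ⟨?_, ?_⟩
    · rintro ⟨a, e⟩
      exact ⟨-a, (congrArg x5 (neg_neg a)).trans e⟩
    · rintro ⟨s, e⟩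
      exact ⟨-s, e⟩
  · rw [HexPos.mem_X6]
    refine Iff.trans (by exact_mod_cast h.mem6 g) ⟨?_, ?_⟩
    · rintro ⟨a, ha, e⟩
      obtain ⟨s, hs⟩ := hF (show σ (-a) = -a by rw [map_neg, ha])
      exact ⟨s, (congrArg x6 (by rw [hs, neg_neg])).trans e⟩
    · rintro ⟨s, e⟩
      exact ⟨_, by rw [map_neg, fixA hσ], e⟩

end Cfsg.Agent.Hexagon.PosOfRel
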