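import Cfsg.Agent.S1071
import Cfsg.Agent.Hexagon.PosOfRel
import Cfsg.Agent.Hexagon.TwD4Par

/-!
# Identification theorem for `³D₄(q)`

`HexRoot φ (twistedD4 K q)` for `|K| = q³`, `φ : t ↦ t ^ q`, and: a nonabelian simple group with hexagonal root data
over the same `φ` is `twistedD4 K q`.
-/

set_option autoImplicit false

namespace Cfsg.Agent.Hexagon.TwD4Ident

open Cfsg.Lie
open Cfsg.Agent.Hexagon.Pos Cfsg.Agent.Hexagon.RootIdent Cfsg.Agent.Hexagon.PosOfRel

universe u v w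

variable {F : Type u} {K : Type v} [Field F] [Field K] [Algebra F K] {φ : K ≃ₐ[F] K}

/-- The data of `twistedD4 K q`. -/
theorem exists_root [Fintype K] {q : ℕ} (hq : IsPrimePow q) (hK : Fintype.card K = q ^ 3) (hP : Pair φ)
    (hφ : ∀ t, φ t = t ^ q) : Nonempty (HexRoot φ ↥(twistedD4 K q)) := by
  haveI := (Cfsg.Agent.S1071.result (K := K) hq hK).1
  obtain ⟨c, x1, x2, x3, x4, x5, x6, hpar, hgen, hU⟩ :=
    TwD4Par.exists_kside (K := K) hq hK (σ := (φ : K ≃+* K)) (fun x => hφ x)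
  exact ⟨HexRoot.ofRGDZ (hexPos hP (fun _ => rfl) hpar) c (hexPos_X hP (fun _ => rfl) hpar) hgen⟩

/-- **Identification theorem for `³D₄(q)`**. -/
theorem ident [Fintype K] {q : ℕ} (hq : IsPrimePow q) (hK : Fintype.card K = q ^ 3) (hP : Pair φ)
    (hφ : ∀ t, φ t = t ^ q) {G : Type w} [Group G] [IsSimpleGroup G] (hG : ¬ IsMulCommutative G)
    (A : HexRoot φ G) : Nonempty (G ≃* ↥(twistedD4 K q)) := by
  obtain ⟨h1, h2⟩ := Cfsg.Agent.S1071.result (K := K) hq hK
  obtain ⟨B⟩ := exists_root (K := K) hq hK hP hφ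
  exact RootIdent.ident hG h2 A B

end Cfsg.Agent.Hexagon.TwD4Ident
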