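import Cfsg.Agent.Hexagon.Ident
/-!
# Identification with a possibly non-simple model (S1144, `q = 2`)

* `exists_hom` : `G` simple, `K` arbitrary, the same positive relations: `G` is a quotient of `K`;
* `equiv_commutator` : if moreover `⁅K, K⁆` is simple and `G` is not abelian, then `G ≅ ⁅K, K⁆`.
-/

set_option autoImplicit false

namespace Cfsg.Agent.Hexagon.Quot

open Cfsg.Agent.TitsThree.RankTwoRGD Cfsg.Agent.TitsThree.RankTwoIdx Cfsg.Agent.TitsThree.RankTwoZ
open Cfsg.Agent.RootSeq.Seg Cfsg.Agent.RootSeq.Cell Cfsg.Agent.RootSeq.Main Cfsg.Agent.RootSeq.Final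
open scoped commutatorElement

universe u v u' v'

section gen

variable {m : ℕ} {Y : Type u} [Group Y] (c : RGDZ m Y)

/-- The positive root groups and the two negative simple ones generate all root groups. -/
theorem X_le (k : ZMod (2 * m)) : c.X k ≤ c.r2.U ⊔ (c.r2.XI' ⊔ c.r2.XJ') := by
  have : NeZero (2 * m) := ⟨by have := c.one_le; omega⟩
  set G0 : Subgroup Y := c.r2.U ⊔ (c.r2.XI' ⊔ c.r2.XJ') with hG0
  have hU : c.U ≤ G0 := le_sup_left
  have hI : c.X (m + 1) ≤ G0 := (le_sup_left : c.r2.XI' ≤ c.r2.XI' ⊔ c.r2.XJ').trans le_sup_right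
  have hJ : c.X 0 ≤ G0 := (le_sup_right : c.r2.XJ' ≤ c.r2.XI' ⊔ c.r2.XJ').trans le_sup_right
  -- positive roots
  have pos : ∀ k : ℕ, 1 ≤ k → k ≤ m → c.X (k : ZMod (2 * m)) ≤ G0 := fun k h1 h2 =>
    (c.X_le_U h1 h2).trans hU
  have nI : c.nI ∈ G0 := by
    refine (sup_le ?_ hI : c.X 1 ⊔ c.X (m + 1) ≤ G0) c.nI_mem
    have := pos 1 le_rfl c.one_le
    rwa [Nat.cast_one] at this
  have nJ : c.nJ ∈ G0 := (sup_le (pos m c.one_le le_rfl) hJ : c.X m ⊔ c.X 0 ≤ G0) c.nJ_mem
  have altG : ∀ r, alt c.nI c.nJ r ∈ G0 ∧ alt c.nJ c.nI r ∈ G0 := by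
    intro r
    induction r with
    | zero => exact ⟨one_mem _, one_mem _⟩
    | succ r ih => exact ⟨mul_mem nI ih.2, mul_mem nJ ih.1⟩
  have key : ∀ k l : ZMod (2 * m), c.X k ≤ G0 →
      ∀ (w : Y) (f : ZMod (2 * m) → ZMod (2 * m)), w ∈ G0 → Maps c.X w f → f l = k →
      c.X l ≤ G0 := by
    intro k l hk w f hw hf e x hx
    have h1 := (hf l x).2 hx
    rw [e] at h1
    have h2 := mul_mem (mul_mem (inv_mem hw) (hk h1)) hw
    have e2 : w⁻¹ * (w * x * w⁻¹) * w = x := by group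
    rwa [e2] at h2
  obtain ⟨k, hk, rfl⟩ : ∃ r : ℕ, r < 2 * m ∧ (r : ZMod (2 * m)) = k :=
    ⟨k.val, ZMod.val_lt k, ZMod.natCast_zmod_val k⟩
  rcases Nat.eq_zero_or_pos k with rfl | h0
  · intro x hx
    have hx' : x ∈ c.X 0 := by simpa using hx
    exact hJ hx'
  rcases Nat.lt_or_ge m k with hmk | hmk
  · -- negative root
    obtain ⟨hI, hJ⟩ := c.alt_maps m
    by_cases h : Even m
    · simp only [h, if_true] at hI hJ
      refine key ((k - m : ℕ) : ZMod (2 * m)) k (pos _ (by omega) (by omega)) _ _ (altG m).2 hJ ?_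
      rw [Nat.cast_sub hmk.le]
    · simp only [h, if_false] at hI hJ
      refine key ((2 * m + 1 - k : ℕ) : ZMod (2 * m)) k (pos _ (by omega) (by omega)) _ _ (altG m).1 hI ?_
      rw [Nat.cast_sub (by omega)]
      push_cast
      ring
  · exact pos k h0 hmk

theorem gen_of_rgdz (hgen : ⨆ k, c.X k = ⊤) : c.r2.U ⊔ (c.r2.XI' ⊔ c.r2.XJ') = ⊤ :=
  eq_top_iff.2 (hgen ▸ iSup_le (X_le c))

end gen

section hom

variable {m : ℕ} {G : Type u} {K : Type v} [Group G] [Group K]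

/-- A simple group is a quotient of every group with an isomorphic positive part. -/
theorem exists_hom_pair {Ω : Type u'} {Ω' : Type v'} [MulAction G Ω] [MulAction K Ω']
    (P : Pair m G K Ω Ω') [IsSimpleGroup G] (hgen : P.c.U ⊔ (P.c.XI' ⊔ P.c.XJ') = ⊤)
    (hgen' : P.c'.U ⊔ (P.c'.XI' ⊔ P.c'.XJ') = ⊤) : ∃ f : K →* G, Function.Surjective f := by
  have h1 := map_fst P hgen
  have h2 := map_snd P hgen'
  -- the kernel of the projection on `K`
  set N : Subgroup G := (graph P).comap (MonoidHom.inl G K) with hN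
  have hmem : ∀ g, g ∈ N ↔ (g, (1 : K)) ∈ graph P := fun g => Iff.rfl
  have hnormal : N.Normal := by
    refine ⟨fun n hn g => ?_⟩
    have hg : g ∈ (graph P).map (MonoidHom.fst G K) := by rw [h1]; trivial
    obtain ⟨⟨g', k⟩, hgk, rfl⟩ := hg
    rw [hmem] at hn ⊢
    have h3 := mul_mem (mul_mem hgk hn) (inv_mem hgk)
    simpa using h3
  have hfix : ∀ g ∈ N, g • P.o = P.o := by
    intro g hg
    obtain ⟨b, hb⟩ := P.FR_total P.o
    have h3 := (hg P.o b).1 hb
    have h4 : P.FR (g • P.o) b := by simpa using h3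
    exact P.FR_inj h4 hb
  have hbot : N = ⊥ := by
    rcases hnormal.eq_bot_or_eq_top with h | h
    · exact h
    · exfalso
      apply P.good.I
      change P.c.nI ∈ D P.c
      exact (P.stab _).1 (hfix _ (by rw [h]; trivial))
  let p : ↥(graph P) →* K := (MonoidHom.snd G K).comp (graph P).subtype
  have hp : Function.Bijective p := by
    constructor
    · rw [injective_iff_map_eq_one]
      rintro ⟨⟨g, k⟩, hgk⟩ h
      have h3 : k = 1 := h
      subst h3
      have h4 : g ∈ N := hgk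
      rw [hbot] at h4
      have h5 : g = 1 := h4
      subst h5
      rfl
    · intro k
      have hk : k ∈ (graph P).map (MonoidHom.snd G K) := by rw [h2]; trivial
      obtain ⟨q, hq, rfl⟩ := hk
      exact ⟨⟨q, hq⟩, rfl⟩
  refine ⟨((MonoidHom.fst G K).comp (graph P).subtype).comp
    (MulEquiv.ofBijective p hp).symm.toMonoidHom, ?_⟩
  intro g
  have hg : g ∈ (graph P).map (MonoidHom.fst G K) := by rw [h1]; trivial
  obtain ⟨q, hq, rfl⟩ := hg
  refine ⟨p ⟨q, hq⟩, ?_⟩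
  have h3 : (MulEquiv.ofBijective p hp).symm (p ⟨q, hq⟩) = ⟨q, hq⟩ :=
    (MulEquiv.ofBijective p hp).symm_apply_apply ⟨q, hq⟩
  change ((MulEquiv.ofBijective p hp).symm (p ⟨q, hq⟩) : G × K).1 = q.1
  rw [h3]

variable {c : R2 m G} {c' : R2 m K} {XΔ : ℕ → Subgroup (G × K)}

/-- The pair of root data defined by a family of graphs. -/
def pairOf (hm : 3 ≤ m) (hg : Good c) (hg' : Good c')
    (hgen : c.U ⊔ (c.XI' ⊔ c.XJ') = ⊤) (hgen' : c'.U ⊔ (c'.XI' ⊔ c'.XJ') = ⊤)
    (F : Fam c c' XΔ) : Pair m G K (G ⧸ D c) (K ⧸ D c') where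
  c := c
  c' := c'
  o := QuotientGroup.mk 1
  o' := QuotientGroup.mk 1
  hm := hm
  good := hg
  good' := hg'
  stab := stab_quot c
  stab' := stab_quot c'
  Θ := ⨆ k ∈ Set.Icc 1 m, XΔ k
  ex := fun k h1 h2 x hx => by
    obtain ⟨y, hy⟩ := F.ex k h1 h2 x hx
    exact ⟨y, (F.mem k h1 h2 x y hy).2,
      le_iSup₂_of_le (f := fun k (_ : k ∈ Set.Icc 1 m) => XΔ k) k ⟨h1, h2⟩ le_rfl hy⟩
  ex' := fun k h1 h2 y hy => by
    obtain ⟨x, hx⟩ := F.ex' k h1 h2 y hy
    exact ⟨x, (F.mem k h1 h2 x y hx).1,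
      le_iSup₂_of_le (f := fun k (_ : k ∈ Set.Icc 1 m) => XΔ k) k ⟨h1, h2⟩ le_rfl hx⟩
  inj := fun y hy => (F.inj_all hg hg' m 1 (by omega) le_rfl 1 y hy).1 rfl
  inj' := fun x hx => (F.inj_all hg hg' m 1 (by omega) le_rfl x 1 hx).2 rfl
  le := fun x y h => F.le le_rfl h
  tr := tr_quot c hgen
  tr' := tr_quot c' hgen'

/-- A simple group is a quotient of every group with an isomorphic positive part. -/
theorem exists_hom [IsSimpleGroup G] (hm : 3 ≤ m) (c : RGDZ m G) (c' : RGDZ m K)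
    (hgen : ⨆ k, c.X k = ⊤) (hgen' : ⨆ k, c'.X k = ⊤) (hU : c.U ≠ ⊤)
    (hI : ∃ a ∈ c'.X (m + 1), a ∉ c'.U) (hJ : ∃ a ∈ c'.X 0, a ∉ c'.U)
    {XΔ : ℕ → Subgroup (G × K)} (F : Fam c.r2 c'.r2 XΔ) : ∃ f : K →* G, Function.Surjective f :=
  exists_hom_pair (pairOf hm (good_of_simple hm (gen_of_rgdz c hgen) hU (rgdz_U_ne_bot c))
    (good_of hI hJ) (gen_of_rgdz c hgen) (gen_of_rgdz c' hgen') F)
    (gen_of_rgdz c hgen) (gen_of_rgdz c' hgen')

end hom

/-- A nonabelian simple quotient of `K`, where `⁅K, K⁆` is simple, is `⁅K, K⁆`. -/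
theorem equiv_commutator {G : Type u} {K : Type v} [Group G] [Group K] [IsSimpleGroup G]
    (hG : ¬ IsMulCommutative G) [IsSimpleGroup ↥(commutator K)] (f : K →* G)
    (hf : Function.Surjective f) : Nonempty (G ≃* ↥(commutator K)) := by
  have h1 : commutator G = ⊤ := by
    rcases (inferInstance : (commutator G).Normal).eq_bot_or_eq_top with h | h
    · exfalso
      apply hG
      refine ⟨⟨fun a b => ?_⟩⟩
      have h2 : ⁅a, b⁆ ∈ commutator G := Subgroup.commutator_mem_commutator trivial trivial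
      rw [h] at h2
      exact commutatorElement_eq_one_iff_mul_comm.1 h2
    · exact h
  have h2 : (commutator K).map f = ⊤ := by
    rw [commutator_def, Subgroup.map_commutator, Subgroup.map_top_of_surjective f hf, ← commutator_def, h1]
  let p : ↥(commutator K) →* G := f.comp (commutator K).subtype
  have hp : Function.Surjective p := by
    intro g
    have hg : g ∈ (commutator K).map f := by rw [h2]; trivial
    obtain ⟨k, hk, rfl⟩ := hg
    exact ⟨⟨k, hk⟩, rfl⟩
  have hinj : Function.Injective p := by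
    rw [← MonoidHom.ker_eq_bot_iff]
    rcases (inferInstance : p.ker.Normal).eq_bot_or_eq_top with h | h
    · exact h
    · exfalso
      obtain ⟨g, hg⟩ := exists_ne (1 : G)
      obtain ⟨k, rfl⟩ := hp g
      have : k ∈ p.ker := by rw [h]; trivial
      exact hg this
  exact ⟨(MulEquiv.ofBijective p ⟨hinj, hp⟩).symm⟩

end Cfsg.Agent.Hexagon.Quot
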