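import Cfsg.Agent.SplitTwo.HexFinal
import Cfsg.Agent.SplitTwo.RootSysZ
import Cfsg.Agent.Hexagon.Quot
import Cfsg.Agent.Hexagon.G2End
import Cfsg.Agent.Hexagon.TwD4Par
import Cfsg.Agent.RootSeq.UTop
import Cfsg.Agent.S1055
import Cfsg.Agent.S1057
import Cfsg.Agent.S1071
import Cfsg.Agent.S0283
import Cfsg.Prelude.Def_Classification2

/-!
# S1144, `m = 6`: the finite simple groups with a hexagonal root group system

`lieConcl` : a finite simple group with a root group system of type `m = 6` is `G₂(q)`, `q ≥ 3`, `³D₄(q)`, or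
`PSU₃(3)`.
-/

set_option autoImplicit false

namespace Cfsg.Agent.Hexagon.Final

open Cfsg.Agent.SplitTwo
open Cfsg.Agent.TitsThree.RankTwoIdx Cfsg.Agent.TitsThree.RankTwoZ
open Cfsg.Agent.Hexagon.Ident

universe u

/-! ### Rotation of a root group system -/

section shift

variable {m : ℕ} {G : Type u} [Group G]

/-- The root group system with the indices shifted by one. -/
def shift (R : RootSys m G) : RootSys m G where
  X := fun i => R.X (i + 1)
  H := R.H
  two_lt := R.two_lt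
  ne_bot := fun i => R.ne_bot _
  comm := by
    intro i k h1 h2
    have h := R.comm (i + 1) k h1 h2
    have e : ∀ r : ℕ, i + 1 + (r : ZMod (2 * m)) = i + (r : ZMod (2 * m)) + 1 := fun r => by ring
    simp only [e] at h
    exact h
  inter := by
    intro i
    have h := R.inter (i + 1)
    have e : ∀ r : ℕ, i + 1 + (r : ZMod (2 * m)) = i + (r : ZMod (2 * m)) + 1 := fun r => by ring
    simp only [e] at h
    exact h
  mu := by
    intro i u hu h1
    obtain ⟨v, hv, v', hv', h⟩ := R.mu (i + 1) u hu h1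
    have e : i + 1 + (m : ZMod (2 * m)) = i + (m : ZMod (2 * m)) + 1 := by ring
    rw [e] at hv hv'
    refine ⟨v, hv, v', hv', fun j x => ?_⟩
    have h2 := h (j + 1) x
    have e2 : 2 * (i + 1) + (m : ZMod (2 * m)) - (j + 1) = 2 * i + (m : ZMod (2 * m)) - j + 1 := by ring
    rw [e2] at h2
    exact h2
  gen := by
    rw [eq_top_iff, ← R.gen]
    refine iSup_le fun i => ?_
    have h := le_iSup (fun i => R.X (i + 1)) (i - 1)
    have e : i - 1 + 1 = i := by ring
    simp only [e] at h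
    exact h
  p := R.p
  prime := R.prime
  isPGroup := fun i => R.isPGroup _
  H_conj := fun h hh i => R.H_conj h hh _

end shift

section main

variable {G : Type u} [Group G]

variable {E : Type} [Field E] {σ : E ≃+* E} {X : ZMod (2 * 6) → Subgroup G} {x1 x2 x3 x4 x5 x6 : E → G}

theorem not_comm (h : HexPar σ X x1 x2 x3 x4 x5 x6) : ¬ IsMulCommutative G := by
  intro hG
  have h1 := h.rel.c26 1 1 (map_one σ) (map_one σ)
  have h2 : kk (x2 1) (x6 1) = 1 := by
    unfold kk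
    rw [hG.is_comm.comm (x2 1)⁻¹ (x6 1)⁻¹]
    group
  have h0 : x4 0 = 1 := one_of_add (fun a => σ a = a) (map_zero σ) h.rel.add4
  rw [h2, ← h0] at h1
  have h3 := h.inj4 _ _ (map_zero σ) (by simp) h1
  simp at h3

variable [Finite G] [IsSimpleGroup G] [Finite E]

omit [Finite G] in
theorem isPSU_of_two (R : RootSys 6 G) (h : HexPar (RingEquiv.refl E) R.X x1 x2 x3 x4 x5 x6)
    (hU : (RootSysZ.rgdz R).U ≠ ⊤) (h2 : Nat.card E = 2) : Cfsg.IsPSU G := by
  have : Fintype E := Fintype.ofFinite E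
  obtain ⟨c', y1, y2, y3, y4, y5, y6, k, hgen', -, h7, h0⟩ := G2End.exists_kside E
  obtain ⟨f, hf⟩ := Quot.exists_hom (by norm_num) (RootSysZ.rgdz R) c' R.gen hgen' hU h7 h0
    (fam_of_hexPar (RootSysZ.rgdz R) c' h k)
  have hcard : Fintype.card E = 2 := by rw [← Nat.card_eq_fintype_card]; exact h2
  have : Fintype (GaloisField 3 2) := Fintype.ofFinite _
  have hK : Fintype.card (GaloisField 3 2) = 9 := by
    rw [← Nat.card_eq_fintype_card, GaloisField.card 3 2 (by norm_num)]; norm_num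
  obtain ⟨e⟩ := Cfsg.Agent.S1057.result (F := E) (K := GaloisField 3 2) hcard hK
  have hs : IsSimpleGroup (Cfsg.PSU 3 (GaloisField 3 2) 3) :=
    Cfsg.Agent.S0283.result (q := 3) (by rw [hK]; norm_num) 3 le_rfl (by norm_num)
  have hs' : IsSimpleGroup ↥(commutator ↥(Cfsg.Lie.chevG2.group E)) := e.isSimpleGroup
  obtain ⟨e'⟩ := Quot.equiv_commutator (not_comm h) f hf
  exact ⟨GaloisField 3 2, inferInstance, inferInstance, 3, 3, by rw [hK]; norm_num, le_rfl, by norm_num,
    ⟨e'.trans e⟩⟩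

omit [Finite G] in
theorem isoG2 (R : RootSys 6 G) (h : HexPar (RingEquiv.refl E) R.X x1 x2 x3 x4 x5 x6)
    (hU : (RootSysZ.rgdz R).U ≠ ⊤) (h2 : Nat.card E ≠ 2) : Cfsg.Lie.IsoChevG2 G := by
  have : Fintype E := Fintype.ofFinite E
  obtain ⟨c', y1, y2, y3, y4, y5, y6, k, hgen', hU', -, -⟩ := G2End.exists_kside E
  have h3 : 3 ≤ Fintype.card E := by
    have h4 : 1 < Fintype.card E := Fintype.one_lt_card
    rw [Nat.card_eq_fintype_card] at h2
    omega
  have h5 : ∃ a : E, a ≠ 0 ∧ a ≠ 1 := by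
    by_contra hne
    push Not at hne
    have h6 : Fintype.card E ≤ 2 := by
      classical
      have h7 : (Finset.univ : Finset E) ⊆ {0, 1} := by
        intro a _
        by_cases ha : a = 0
        · simp [ha]
        · simp [hne a ha]
      exact (Finset.card_le_card h7).trans Finset.card_le_two
    omega
  have hs : IsSimpleGroup ↥(Cfsg.Lie.chevG2.group E) := (Cfsg.Agent.S1055.result h5).1
  exact ⟨E, inferInstance, inferInstance, h3,
    nonempty_mulEquiv (RootSysZ.rgdz R) c' R.gen hgen' hU hU' h k⟩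

omit [Finite G] in
theorem iso3D4 (R : RootSys 6 G) (h : HexPar σ R.X x1 x2 x3 x4 x5 x6)
    (hU : (RootSysZ.rgdz R).U ≠ ⊤) {q : ℕ} (hq : Nat.card E = q ^ 3) (hσ : ∀ a, σ a = a ^ q) :
    Cfsg.Lie.Iso3D4 G := by
  have : Fintype E := Fintype.ofFinite E
  have hcard : Fintype.card E = q ^ 3 := by rw [← Nat.card_eq_fintype_card]; exact hq
  have hpp : IsPrimePow q := by
    have h1 : IsPrimePow (Fintype.card E) := FiniteField.isPrimePow_card E
    rw [hcard] at h1
    exact (isPrimePow_pow_iff (by norm_num)).1 h1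
  obtain ⟨c', y1, y2, y3, y4, y5, y6, k, hgen', hU'⟩ := TwD4Par.exists_kside hpp hcard hσ
  have hs : IsSimpleGroup ↥(Cfsg.Lie.twistedD4 E q) := (Cfsg.Agent.S1071.result hpp hcard).1
  exact ⟨E, inferInstance, inferInstance, q, hpp, hcard,
    nonempty_mulEquiv (RootSysZ.rgdz R) c' R.gen hgen' hU hU' h k⟩

/-- the case of a system in coordinates -/
theorem of_hexPar (R : RootSys 6 G) (h : HexPar σ R.X x1 x2 x3 x4 x5 x6)
    (hc : (∀ a, σ a = a) ∨ ∃ q : ℕ, Nat.card E = q ^ 3 ∧ ∀ a, σ a = a ^ q) :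
    Cfsg.IsPSU G ∨ Cfsg.Lie.IsoChevG2 G ∨ Cfsg.Lie.Iso3D4 G := by
  have hU : (RootSysZ.rgdz R).U ≠ ⊤ := by
    refine Cfsg.Agent.RootSeq.UTop.U_ne_top (c := (RootSysZ.rgdz R).r2) (not_comm h) fun k _ _ => ?_
    have : Fact R.p.Prime := ⟨R.prime⟩
    have h1 : Group.IsNilpotent ↥(R.X (k : ZMod (2 * 6))) := (R.isPGroup _).isNilpotent
    exact (inferInstance : Group.IsSolvable ↥(R.X (k : ZMod (2 * 6))))
  rcases hc with h1 | ⟨q, hq, hσ⟩
  · have e : σ = RingEquiv.refl E := RingEquiv.ext h1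
    subst e
    by_cases h2 : Nat.card E = 2
    · exact Or.inl (isPSU_of_two R h hU h2)
    · exact Or.inr (Or.inl (isoG2 R h hU h2))
  · exact Or.inr (Or.inr (iso3D4 R h hU hq hσ))

theorem main (R : RootSys 6 G) : Cfsg.IsPSU G ∨ Cfsg.Lie.IsoChevG2 G ∨ Cfsg.Lie.Iso3D4 G := by
  obtain ⟨E, _, _, σ, x1, x2, x3, x4, x5, x6, h | h, hc⟩ := HexFinal.exists_hexPar R
  · exact of_hexPar R h hc
  · exact of_hexPar (shift R) h hc

end main

/-- **S1144, `m = 6`.** -/
theorem lieConcl {G : Type u} [Group G] [Finite G] [IsSimpleGroup G] (R : RootSys 6 G) :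
    Cfsg.IsPSL G ∨ Cfsg.IsPSp G ∨ Cfsg.IsPSU G ∨ Cfsg.IsPOmegaOdd G ∨ Cfsg.IsPOmegaPlus G ∨
      Cfsg.IsPOmegaMinus G ∨ Cfsg.IsExceptionalLieType G := by
  rcases main R with h | h | h
  · exact Or.inr (Or.inr (Or.inl h))
  · exact Or.inr (Or.inr (Or.inr (Or.inr (Or.inr (Or.inr (Or.inl h))))))
  · refine Or.inr (Or.inr (Or.inr (Or.inr (Or.inr (Or.inr ?_)))))
    exact Or.inr (Or.inr (Or.inr (Or.inr (Or.inr (Or.inr (Or.inl h))))))

end Cfsg.Agent.Hexagon.Final
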