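import Cfsg.Agent.Hexagon.Words
import Cfsg.Agent.Hexagon.Pos

/-!
# The positive relations of `chevG2.group F` in the form `HexPos`
-/

set_option autoImplicit false

namespace Cfsg.Agent.Hexagon.G2Pos

open Cfsg.Lie
open Cfsg.Agent.ChevalleyStructure.Elts Cfsg.Agent.ChevalleyStructure.WordCheck
open Cfsg.Agent.Hexagon.Words Cfsg.Agent.Hexagon.Pos
open Cfsg.Agent.Hex.Defs (sh cr nm tr)
open scoped commutatorElement

universe u

variable {F : Type u} [Field F]

theorem hG2 : InList chevG2 := List.mem_cons_self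

/-- root elements in the group -/
def xs (r : ℕ) (t : F) : ↥(chevG2.group F) := ⟨xG hG2 r t, xG_mem_group hG2 r t⟩

theorem coe_xs (r : ℕ) (t : F) : ((xs r t : ↥(chevG2.group F)) : GL chevG2.Idx F) = xG hG2 r t := rfl

theorem xs_add (r : ℕ) (s t : F) : (xs r (s + t) : ↥(chevG2.group F)) = xs r s * xs r t :=
  Subtype.ext (xG_add hG2 r s t).symm

theorem xs_eq_one {r : ℕ} (hr : r < 12) (t : F) (h : (xs r t : ↥(chevG2.group F)) = 1) : t = 0 :=
  (xG_eq_one_iff hG2 (show r < chevG2.nroots from hr) t).1 (congrArg Subtype.val h)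

/-- the identity as an automorphism -/
abbrev idF (F : Type u) [Field F] : F ≃ₐ[F] F := AlgEquiv.refl

theorem pair_idF (F : Type u) [Field F] : Pair (idF F) := ⟨fun _ => rfl, fun t _ => ⟨t, rfl⟩⟩

theorem tr_id (t : F) : tr (idF F) t = 3 * t := by
  have h := algebraMap_tr (pair_idF F) t
  rw [Algebra.algebraMap_self_apply] at h
  rw [h]
  simp only [AlgEquiv.coe_refl, id]
  ring

theorem nm_id (t : F) : nm (idF F) t = t ^ 3 := by
  have h := algebraMap_nm (pair_idF F) t
  rw [Algebra.algebraMap_self_apply] at h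
  rw [h]
  simp only [AlgEquiv.coe_refl, id]
  ring

theorem sh_id (t : F) : sh (idF F) t = t ^ 2 := by
  unfold sh
  simp only [AlgEquiv.coe_refl, id]
  ring

theorem cr_id (s t : F) : cr (idF F) s t = 2 * s * t := by
  unfold cr
  simp only [AlgEquiv.coe_refl, id]
  ring

/-- parameters -/
def rho (s t : F) : ℕ → F := fun i => if i = 0 then s else t

theorem rho0 (s t : F) : rho s t 0 = s := rfl
theorem rho1 (s t : F) : rho s t 1 = t := rfl

theorem comm_eq {r r' : ℕ} (s t : F) {z : List (ℕ × PExpr)} {g : ↥(chevG2.group F)}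
    (h : check chevG2 0 0 2 (xw (cw [(r, .var 0)] [(r', .var 1)])) (xw z) = true)
    (hz : gval hG2 (rho s t) z = g) : ⁅(xs r s : ↥(chevG2.group F)), xs r' t⁆ = g := by
  apply Subtype.ext
  rw [← hz]
  have h1 := gval_comm hG2 (rho s t) 2 h
  rw [gval_cons, gval_nil, mul_one, gval_cons, gval_nil, mul_one] at h1
  exact h1

theorem comm_one {r r' : ℕ} (s t : F)
    (h : check chevG2 0 0 2 (xw (cw [(r, .var 0)] [(r', .var 1)])) (xw []) = true) :
    ⁅(xs r s : ↥(chevG2.group F)), xs r' t⁆ = 1 := comm_eq s t h rfl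

/-- The package of `chevG2.group F`. -/
def pos (F : Type u) [Field F] : HexPos (idF F) ↥(chevG2.group F) where
  x1 := xs 7
  x2 := xs 10
  x3 := xs 9
  x4 := xs 11
  x5 := xs 8
  x6 := xs 6
  add1 := xs_add 7
  add2 := xs_add 10
  add3 := xs_add 9
  add4 := xs_add 11
  add5 := xs_add 8
  add6 := xs_add 6
  inj1 := xs_eq_one (by norm_num)
  inj2 := xs_eq_one (by norm_num)
  inj3 := xs_eq_one (by norm_num)
  inj4 := xs_eq_one (by norm_num)
  inj5 := xs_eq_one (by norm_num)
  inj6 := xs_eq_one (by norm_num)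
  r13 := fun a b => by
    refine comm_eq a b (z := [(10, .mul (.const 3) (.mul (.var 0) (.var 1)))]) (by decide +kernel) ?_
    rw [gval_cons, gval_nil, mul_one, tr_id, coe_xs]
    simp [PExpr.denote, rho0, rho1]
  r35 := fun a b => by
    refine comm_eq a b (z := [(11, .neg (.mul (.const 3) (.mul (.var 0) (.var 1))))]) (by decide +kernel) ?_
    rw [gval_cons, gval_nil, mul_one, tr_id, coe_xs]
    simp [PExpr.denote, rho0, rho1]
  r26 := fun a b => by
    refine comm_eq a b (z := [(11, .neg (.mul (.var 0) (.var 1)))]) (by decide +kernel) ?_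
    rw [gval_cons, gval_nil, mul_one, coe_xs]
    simp [PExpr.denote, rho0, rho1]
  r15 := fun a b => by
    refine comm_eq a b (z := [(10, .neg (.mul (.const 3) (.mul (.pow (.var 0) 2) (.var 1)))),
      (9, .neg (.mul (.mul (.const 2) (.var 0)) (.var 1))),
      (11, .neg (.mul (.const 3) (.mul (.var 0) (.pow (.var 1) 2))))]) (by decide +kernel) ?_
    rw [gval_cons, gval_cons, gval_cons, gval_nil, mul_one, tr_id, tr_id, sh_id, sh_id, cr_id,
      Subgroup.coe_mul, Subgroup.coe_mul, coe_xs, coe_xs, coe_xs, mul_assoc]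
    simp [PExpr.denote, rho0, rho1]
  r16 := fun a b => by
    refine comm_eq a b (z := [(10, .mul (.var 1) (.pow (.var 0) 3)), (9, .mul (.var 1) (.pow (.var 0) 2)),
      (11, .neg (.mul (.pow (.var 1) 2) (.pow (.var 0) 3))), (8, .neg (.mul (.var 1) (.var 0)))])
      (by decide +kernel) ?_
    rw [gval_cons, gval_cons, gval_cons, gval_cons, gval_nil, mul_one, nm_id, sh_id,
      Subgroup.coe_mul, Subgroup.coe_mul, Subgroup.coe_mul, coe_xs, coe_xs, coe_xs, coe_xs, mul_assoc, mul_assoc]
    simp [PExpr.denote, rho0, rho1]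
  c12 := fun a b => comm_one a b (by decide +kernel)
  c14 := fun a b => comm_one a b (by decide +kernel)
  c23 := fun a b => comm_one a b (by decide +kernel)
  c24 := fun a b => comm_one a b (by decide +kernel)
  c25 := fun a b => comm_one a b (by decide +kernel)
  c34 := fun a b => comm_one a b (by decide +kernel)
  c36 := fun a b => comm_one a b (by decide +kernel)
  c45 := fun a b => comm_one a b (by decide +kernel)
  c46 := fun a b => comm_one a b (by decide +kernel)
  c56 := fun a b => comm_one a b (by decide +kernel)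

end Cfsg.Agent.Hexagon.G2Pos
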