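import Cfsg.Agent.ChevalleyStructure.WordCheck
import Cfsg.Agent.ChevalleyStructure.G2N
import Cfsg.Agent.ChevalleyStructure.Elts
import Cfsg.Agent.SplitTwo.HexDefs

/-!
# The positive relations of `G₂` (S1144, `m = 6`, K side)

`Y1, …, Y6`: the positive root elements of the Chevalley group of type `G₂`, with signs; `hexRel`: they satisfy the
positive relations `HexRel` for `σ = 1`, over every field.
-/

set_option autoImplicit false
set_option maxHeartbeats 400000

namespace Cfsg.Agent.Hexagon.G2Rel

open Cfsg.Lie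
open Cfsg.Agent.ChevalleyStructure.WordCheck
open Cfsg.Agent.ChevalleyStructure.G2N (xG coe_xG xG_add xG_zero xG_neg)
open Cfsg.Agent.SplitTwo
open PExpr

/-! ### Words -/

/-- inverse word -/
def inv (w : List (ℕ × PExpr)) : List (ℕ × PExpr) := (w.map fun l => (l.1, .neg l.2)).reverse

/-- `[w, v] = w⁻¹ v⁻¹ w v` -/
def kw (w v : List (ℕ × PExpr)) : List (ℕ × PExpr) := inv w ++ (inv v ++ (w ++ v))

def p1 (a : PExpr) : List (ℕ × PExpr) := [(7, a)]
def p2 (a : PExpr) : List (ℕ × PExpr) := [(10, .neg a)]
def p3 (a : PExpr) : List (ℕ × PExpr) := [(9, .neg a)]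
def p4 (a : PExpr) : List (ℕ × PExpr) := [(11, a)]
def p5 (a : PExpr) : List (ℕ × PExpr) := [(8, a)]
def p6 (a : PExpr) : List (ℕ × PExpr) := [(6, a)]

def va : PExpr := .var 0
def vb : PExpr := .var 1

theorem k12 : check chevG2 0 0 2 (xw (kw (p1 va) (p2 vb))) (xw []) = true := by decide +kernel
theorem k13 : check chevG2 0 0 2 (xw (kw (p1 va) (p3 vb))) (xw (p2 (.mul (.const 3) (.mul va vb)))) = true := by
  decide +kernel
theorem k14 : check chevG2 0 0 2 (xw (kw (p1 va) (p4 vb))) (xw []) = true := by decide +kernel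
theorem k15 : check chevG2 0 0 2 (xw (kw (p1 va) (p5 vb)))
    (xw (p2 (.neg (.mul (.const 3) (.mul (.mul va va) vb))) ++ (p3 (.mul (.const 2) (.mul va vb)) ++
      p4 (.mul (.const 3) (.mul va (.mul vb vb)))))) = true := by
  decide +kernel
theorem k16 : check chevG2 0 0 2 (xw (kw (p1 va) (p6 vb)))
    (xw (p2 (.neg (.mul vb (.mul va (.mul va va)))) ++ (p3 (.mul vb (.mul va va)) ++
      (p4 (.mul (.mul vb vb) (.mul va (.mul va va))) ++ p5 (.neg (.mul vb va)))))) = true := by
  decide +kernel
theorem k23 : check chevG2 0 0 2 (xw (kw (p2 va) (p3 vb))) (xw []) = true := by decide +kernel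
theorem k24 : check chevG2 0 0 2 (xw (kw (p2 va) (p4 vb))) (xw []) = true := by decide +kernel
theorem k25 : check chevG2 0 0 2 (xw (kw (p2 va) (p5 vb))) (xw []) = true := by decide +kernel
theorem k26 : check chevG2 0 0 2 (xw (kw (p2 va) (p6 vb))) (xw (p4 (.mul va vb))) = true := by
  decide +kernel
theorem k34 : check chevG2 0 0 2 (xw (kw (p3 va) (p4 vb))) (xw []) = true := by decide +kernel
theorem k35 : check chevG2 0 0 2 (xw (kw (p3 va) (p5 vb))) (xw (p4 (.mul (.const 3) (.mul va vb)))) = true := by
  decide +kernel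
theorem k36 : check chevG2 0 0 2 (xw (kw (p3 va) (p6 vb))) (xw []) = true := by decide +kernel
theorem k45 : check chevG2 0 0 2 (xw (kw (p4 va) (p5 vb))) (xw []) = true := by decide +kernel
theorem k46 : check chevG2 0 0 2 (xw (kw (p4 va) (p6 vb))) (xw []) = true := by decide +kernel
theorem k56 : check chevG2 0 0 2 (xw (kw (p5 va) (p6 vb))) (xw []) = true := by decide +kernel

variable {K : Type*} [Field K]

/-- The word `[(r₁,t₁), …]` as an element of the general linear group. -/
def wordG (w : List (ℕ × K)) : GL chevG2.Idx K := (w.map fun p => xG p.1 p.2).prod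

theorem wordG_nil : wordG ([] : List (ℕ × K)) = 1 := rfl

theorem wordG_cons (p : ℕ × K) (w : List (ℕ × K)) : wordG (p :: w) = xG p.1 p.2 * wordG w := by
  simp [wordG]

theorem wordG_append (w v : List (ℕ × K)) : wordG (w ++ v) = wordG w * wordG v := by
  simp [wordG]

theorem coe_wordG (w : List (ℕ × K)) :
    ((wordG w : GL chevG2.Idx K) : Matrix chevG2.Idx chevG2.Idx K) = chevG2.wordMat K w := by
  induction w with
  | nil => rfl
  | cons p w ih =>
    rw [wordG_cons, Units.val_mul, ih]
    show _ = (List.map _ (p :: w)).prod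
    rw [List.map_cons, List.prod_cons]
    rfl

/-- inverse word -/
def negW (w : List (ℕ × K)) : List (ℕ × K) := (w.map fun l => (l.1, -l.2)).reverse

theorem wordG_negW (w : List (ℕ × K)) : wordG (negW w) = (wordG w)⁻¹ := by
  induction w with
  | nil => simp [negW, wordG_nil]
  | cons p w ih =>
    have e : negW (p :: w) = negW w ++ [(p.1, -p.2)] := by simp [negW]
    rw [e, wordG_append, ih, wordG_cons, wordG_cons, wordG_nil, mul_one, mul_inv_rev, xG_neg]

theorem kk_wordG (w v : List (ℕ × K)) :
    kk (wordG w) (wordG v) = wordG (negW w ++ (negW v ++ (w ++ v))) := by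
  rw [wordG_append, wordG_append, wordG_append, wordG_negW, wordG_negW, kk]
  group

theorem wval_append (ρ : ℕ → K) (w v : List (ℕ × PExpr)) : wval ρ (w ++ v) = wval ρ w ++ wval ρ v := by
  simp [wval]

theorem wval_inv (ρ : ℕ → K) (w : List (ℕ × PExpr)) : wval ρ (inv w) = negW (wval ρ w) := by
  simp [wval, inv, negW, PExpr.denote, Function.comp_def]

theorem rel_of_check {nv : ℕ} (ρ : ℕ → K) {w v u : List (ℕ × PExpr)}
    (h : check chevG2 0 0 nv (xw (kw w v)) (xw u) = true) :
    kk (wordG (wval ρ w)) (wordG (wval ρ v)) = wordG (wval ρ u) := by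
  have h1 := wordMat_eq_of_check chevG2 ρ 0 0 nv (kw w v) u h (by simp) (by simp)
  rw [kk_wordG, ← wval_inv, ← wval_inv, ← wval_append, ← wval_append, ← wval_append]
  apply Units.ext
  rw [coe_wordG, coe_wordG]
  exact h1

/-! ### The root elements -/

/-- short simple root -/
def Y1 (a : K) : GL chevG2.Idx K := xG 7 a
def Y2 (t : K) : GL chevG2.Idx K := xG 10 (-t)
def Y3 (a : K) : GL chevG2.Idx K := xG 9 (-a)
def Y4 (t : K) : GL chevG2.Idx K := xG 11 t
def Y5 (a : K) : GL chevG2.Idx K := xG 8 a
/-- long simple root -/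
def Y6 (t : K) : GL chevG2.Idx K := xG 6 t

/-- the assignment of the variables -/
def rho (a b : K) : ℕ → K
  | 0 => a
  | _ => b

section

variable (a b : K)

theorem e1 (e : PExpr) (ρ : ℕ → K) : wordG (wval ρ (p1 e)) = Y1 (e.denote ρ) := by
  show wordG [(7, e.denote ρ)] = _
  rw [wordG_cons, wordG_nil, mul_one, Y1]
theorem e2 (e : PExpr) (ρ : ℕ → K) : wordG (wval ρ (p2 e)) = Y2 (e.denote ρ) := by
  show wordG [(10, -e.denote ρ)] = _
  rw [wordG_cons, wordG_nil, mul_one, Y2]
theorem e3 (e : PExpr) (ρ : ℕ → K) : wordG (wval ρ (p3 e)) = Y3 (e.denote ρ) := by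
  show wordG [(9, -e.denote ρ)] = _
  rw [wordG_cons, wordG_nil, mul_one, Y3]
theorem e4 (e : PExpr) (ρ : ℕ → K) : wordG (wval ρ (p4 e)) = Y4 (e.denote ρ) := by
  show wordG [(11, e.denote ρ)] = _
  rw [wordG_cons, wordG_nil, mul_one, Y4]
theorem e5 (e : PExpr) (ρ : ℕ → K) : wordG (wval ρ (p5 e)) = Y5 (e.denote ρ) := by
  show wordG [(8, e.denote ρ)] = _
  rw [wordG_cons, wordG_nil, mul_one, Y5]
theorem e6 (e : PExpr) (ρ : ℕ → K) : wordG (wval ρ (p6 e)) = Y6 (e.denote ρ) := by
  show wordG [(6, e.denote ρ)] = _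
  rw [wordG_cons, wordG_nil, mul_one, Y6]

theorem e0 (ρ : ℕ → K) : wordG (wval ρ []) = 1 := rfl

theorem da : va.denote (rho a b) = a := rfl
theorem db : vb.denote (rho a b) = b := rfl

end

/-- **The positive relations of `G₂`.** -/
theorem hexRel : HexRel (RingEquiv.refl K) (Y1 : K → GL chevG2.Idx K) Y2 Y3 Y4 Y5 Y6 where
  cube _ := rfl
  add1 a b := xG_add _ _ _
  add2 a b _ _ := by rw [Y2, neg_add, xG_add]; rfl
  add3 a b := by rw [Y3, neg_add, xG_add]; rfl
  add4 a b _ _ := xG_add _ _ _
  add5 a b := xG_add _ _ _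
  add6 a b _ _ := xG_add _ _ _
  c12 a t _ := by
    have h := rel_of_check (rho a t) k12
    rwa [e1, e2, e0, da, db] at h
  c13 a b := by
    have h := rel_of_check (rho a b) k13
    rw [e1, e3, e2, da, db] at h
    rw [h]
    congr 1
    simp only [PExpr.denote, da, db, trc, RingEquiv.refl_apply]
    push_cast
    ring
  c14 a t _ := by
    have h := rel_of_check (rho a t) k14
    rwa [e1, e4, e0, da, db] at h
  c15 a b := by
    have h := rel_of_check (rho a b) k15
    rw [wval_append, wval_append, wordG_append, wordG_append, e1, e5, e2, e3, e4, da, db] at h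
    have q2 : (PExpr.neg (.mul (.const 3) (.mul (.mul va va) vb))).denote (rho a b) =
        -(trc (RingEquiv.refl K) (shp (RingEquiv.refl K) a) b) := by
      simp only [PExpr.denote, da, db, trc, shp, RingEquiv.refl_apply]
      push_cast
      ring
    have q3 : (PExpr.mul (.const 2) (.mul va vb)).denote (rho a b) = crs (RingEquiv.refl K) a b := by
      simp only [PExpr.denote, da, db, crs, RingEquiv.refl_apply]
      push_cast
      ring
    have q4 : (PExpr.mul (.const 3) (.mul va (.mul vb vb))).denote (rho a b) =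
        trc (RingEquiv.refl K) a (shp (RingEquiv.refl K) b) := by
      simp only [PExpr.denote, da, db, trc, shp, RingEquiv.refl_apply]
      push_cast
      ring
    rw [h, ← mul_assoc, q2, q3, q4]
  c16 a t _ := by
    have h := rel_of_check (rho a t) k16
    rw [wval_append, wval_append, wval_append, wordG_append, wordG_append, wordG_append, e1, e6, e2, e3,
      e4, e5, da, db] at h
    have q2 : (PExpr.neg (.mul vb (.mul va (.mul va va)))).denote (rho a t) =
        -(t * nrm (RingEquiv.refl K) a) := by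
      simp only [PExpr.denote, da, db, nrm, RingEquiv.refl_apply]
      ring
    have q3 : (PExpr.mul vb (.mul va va)).denote (rho a t) = t * shp (RingEquiv.refl K) a := by
      simp only [PExpr.denote, da, db, shp, RingEquiv.refl_apply]
    have q4 : (PExpr.mul (.mul vb vb) (.mul va (.mul va va))).denote (rho a t) =
        t ^ 2 * nrm (RingEquiv.refl K) a := by
      simp only [PExpr.denote, da, db, nrm, RingEquiv.refl_apply]
      ring
    have q5 : (PExpr.neg (.mul vb va)).denote (rho a t) = -(t * a) := by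
      simp only [PExpr.denote, da, db]
    rw [h, ← mul_assoc, ← mul_assoc, q2, q3, q4, q5]
  c23 t a _ := by
    have h := rel_of_check (rho t a) k23
    rwa [e2, e3, e0, da, db] at h
  c24 t u _ _ := by
    have h := rel_of_check (rho t u) k24
    rwa [e2, e4, e0, da, db] at h
  c25 t a _ := by
    have h := rel_of_check (rho t a) k25
    rwa [e2, e5, e0, da, db] at h
  c26 t u _ _ := by
    have h := rel_of_check (rho t u) k26
    rwa [e2, e6, e4, da, db] at h
  c34 a t _ := by
    have h := rel_of_check (rho a t) k34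
    rwa [e3, e4, e0, da, db] at h
  c35 a b := by
    have h := rel_of_check (rho a b) k35
    rw [e3, e5, e4, da, db] at h
    rw [h]
    congr 1
    simp only [PExpr.denote, da, db, trc, RingEquiv.refl_apply]
    push_cast
    ring
  c36 a t _ := by
    have h := rel_of_check (rho a t) k36
    rwa [e3, e6, e0, da, db] at h
  c45 t a _ := by
    have h := rel_of_check (rho t a) k45
    rwa [e4, e5, e0, da, db] at h
  c46 t u _ _ := by
    have h := rel_of_check (rho t u) k46
    rwa [e4, e6, e0, da, db] at h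
  c56 a t _ := by
    have h := rel_of_check (rho a t) k56
    rwa [e5, e6, e0, da, db] at h

end Cfsg.Agent.Hexagon.G2Rel
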