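import Cfsg.Prelude.Def_ChevD4
import Cfsg.Agent.ChevalleyStructure.WordCheck

/-!
# Kernel checks for the positive relations of ³D₄ (S1144, `m = 6`, K side)

The words of the root elements of the relative root system `G₂` of ³D₄, with independent variables in place of
`a, σ a, σ² a`.
-/

set_option autoImplicit false

namespace Cfsg.Agent.Hexagon.TwD4Chk

open Cfsg.Lie
open Cfsg.Agent.ChevalleyStructure.WordCheck
open PExpr

def p1 (x y z : PExpr) : List (ℕ × PExpr) := [(18, x), (13, y), (12, z)]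
def p2 (t : PExpr) : List (ℕ × PExpr) := [(22, t)]
def p3 (x y z : PExpr) : List (ℕ × PExpr) := [(17, .neg x), (20, y), (21, z)]
def p4 (t : PExpr) : List (ℕ × PExpr) := [(23, .neg t)]
def p5 (x y z : PExpr) : List (ℕ × PExpr) := [(19, x), (16, .neg y), (15, .neg z)]
def p6 (t : PExpr) : List (ℕ × PExpr) := [(14, t)]

/-- inverse word -/
def inv (w : List (ℕ × PExpr)) : List (ℕ × PExpr) := (w.map fun l => (l.1, .neg l.2)).reverse

/-- `[w, v] = w⁻¹ v⁻¹ w v` -/
def kw (w v : List (ℕ × PExpr)) : List (ℕ × PExpr) := inv w ++ (inv v ++ (w ++ v))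

/-- `a₀b₀ + a₁b₁ + a₂b₂` -/
def tr : PExpr := .add (.mul (.var 0) (.var 3)) (.add (.mul (.var 1) (.var 4)) (.mul (.var 2) (.var 5)))

def a1 : List (ℕ × PExpr) := p1 (.var 0) (.var 1) (.var 2)
def a3 : List (ℕ × PExpr) := p3 (.var 0) (.var 1) (.var 2)
def b3 : List (ℕ × PExpr) := p3 (.var 3) (.var 4) (.var 5)
def b5 : List (ℕ × PExpr) := p5 (.var 3) (.var 4) (.var 5)

theorem check13 : check chevD4 0 0 6 (xw (kw a1 b3)) (xw (p2 tr)) = true := by decide +kernel

theorem check35 : check chevD4 0 0 6 (xw (kw a3 b5)) (xw (p4 tr)) = true := by decide +kernel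

/-- `-(Σ a#ᵢ bᵢ)` -/
def q2 : PExpr := .neg (.add (.mul (.mul (.var 1) (.var 2)) (.var 3))
  (.add (.mul (.mul (.var 2) (.var 0)) (.var 4)) (.mul (.mul (.var 0) (.var 1)) (.var 5))))

/-- `Σ aᵢ b#ᵢ` -/
def q4 : PExpr := .add (.mul (.var 0) (.mul (.var 4) (.var 5)))
  (.add (.mul (.var 1) (.mul (.var 5) (.var 3))) (.mul (.var 2) (.mul (.var 3) (.var 4))))

def cr (a a' b b' : ℕ) : PExpr := .add (.mul (.var a) (.var b')) (.mul (.var a') (.var b))

theorem check15 : check chevD4 0 0 6 (xw (kw a1 b5))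
    (xw (p2 q2 ++ (p3 (cr 1 2 4 5) (cr 2 0 5 3) (cr 0 1 3 4) ++ p4 q4))) = true := by decide +kernel

/-- the norm -/
def nm : PExpr := .mul (.var 0) (.mul (.var 1) (.var 2))

def b6 : List (ℕ × PExpr) := p6 (.var 3)

theorem check16 : check chevD4 0 0 4 (xw (kw a1 b6))
    (xw (p2 (.neg (.mul (.var 3) nm)) ++
      (p3 (.mul (.var 3) (.mul (.var 1) (.var 2))) (.mul (.var 3) (.mul (.var 2) (.var 0)))
        (.mul (.var 3) (.mul (.var 0) (.var 1))) ++
      (p4 (.mul (.mul (.var 3) (.var 3)) nm) ++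
        p5 (.neg (.mul (.var 3) (.var 0))) (.neg (.mul (.var 3) (.var 1)))
          (.neg (.mul (.var 3) (.var 2))))))) = true := by decide +kernel

theorem check26 : check chevD4 0 0 2 (xw (kw (p2 (.var 0)) (p6 (.var 1))))
    (xw (p4 (.mul (.var 0) (.var 1)))) = true := by decide +kernel

end Cfsg.Agent.Hexagon.TwD4Chk
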