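import Cfsg.Agent.Hexagon.TwD4Chk
import Cfsg.Agent.ChevalleyStructure.D4NConj
import Cfsg.Agent.SplitTwo.HexDefs

/-!
# The positive relations of ³D₄ (S1144, `m = 6`, K side)

`X1 σ, …, X6 σ`: the root elements of the relative root system `G₂` of ³D₄ in the group of matrices, for a field `K`
with an automorphism `σ`, `σ³ = 1`; `hexRel`: they satisfy the positive relations `HexRel σ`.
-/

set_option autoImplicit false
set_option maxHeartbeats 400000

namespace Cfsg.Agent.Hexagon.TwD4Rel

open Cfsg.Lie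
open Cfsg.Agent.ChevalleyStructure.WordCheck
open Cfsg.Agent.ChevalleyStructure.D4Comm Cfsg.Agent.ChevalleyStructure.D4CommTab
open Cfsg.Agent.ChevalleyStructure.D4NConj
open Cfsg.Agent.Hexagon.TwD4Chk Cfsg.Agent.SplitTwo
open scoped commutatorElement

variable {K : Type*} [Field K]

/-! ### Words -/

/-- inverse word -/
def negW (w : List (ℕ × K)) : List (ℕ × K) := (w.map fun l => (l.1, -l.2)).reverse

theorem wordG_negW (w : List (ℕ × K)) : wordG (negW w) = (wordG w)⁻¹ := by
  induction w with
  | nil => simp [negW, wordG_nil]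
  | cons p w ih =>
    have e : negW (p :: w) = negW w ++ [(p.1, -p.2)] := by simp [negW]
    rw [e, wordG_append, ih, wordG_cons, wordG_cons, wordG_nil, mul_one, mul_inv_rev, xG_inv]

theorem kk_wordG (w v : List (ℕ × K)) :
    kk (wordG w) (wordG v) = wordG (negW w ++ (negW v ++ (w ++ v))) := by
  rw [wordG_append, wordG_append, wordG_append, wordG_negW, wordG_negW, kk]
  group

theorem wval_append (ρ : ℕ → K) (w v : List (ℕ × PExpr)) : wval ρ (w ++ v) = wval ρ w ++ wval ρ v := by
  simp [wval]

theorem wval_inv (ρ : ℕ → K) (w : List (ℕ × PExpr)) : wval ρ (inv w) = negW (wval ρ w) := by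
  simp [wval, inv, negW, PExpr.denote, Function.comp_def]

theorem rel_of_check {nv : ℕ} (ρ : ℕ → K) {w v u : List (ℕ × PExpr)}
    (h : check chevD4 0 0 nv (xw (kw w v)) (xw u) = true) :
    kk (wordG (wval ρ w)) (wordG (wval ρ v)) = wordG (wval ρ u) := by
  have h1 := wordMat_eq_of_check chevD4 ρ 0 0 nv (kw w v) u h (by simp) (by simp)
  rw [kk_wordG, ← wval_inv, ← wval_inv, ← wval_append, ← wval_append, ← wval_append]
  apply Units.ext
  rw [coe_wordG, coe_wordG]
  exact h1

/-! ### Commuting words -/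

/-- The root elements of the roots `r`, `s` commute (by the table). -/
def okPair (r s : ℕ) : Bool :=
  decide (12 ≤ r) && decide (r < 24) && decide (12 ≤ s) && decide (s < 24) &&
    (decide (r = s) || (cm r s).isNone)

theorem commute_of_ok {r s : ℕ} (h : okPair r s = true) (t u : K) :
    Commute (xG r t : GL chevD4.Idx K) (xG s u) := by
  simp only [okPair, Bool.and_eq_true, Bool.or_eq_true, decide_eq_true_eq] at h
  obtain ⟨⟨⟨⟨h1, h2⟩, h3⟩, h4⟩, h5⟩ := h
  rcases h5 with rfl | h5
  · have e1 := xG_add r t u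
    have e2 := xG_add r u t
    rw [add_comm] at e1
    exact e1.symm.trans e2
  · by_cases hne : s = r
    · subst hne
      have e1 := xG_add s t u
      have e2 := xG_add s u t
      rw [add_comm] at e1
      exact e1.symm.trans e2
    · have h6 := xG_comm h1 h2 h3 h4 hne t u
      rw [cval, Option.isNone_iff_eq_none.1 h5] at h6
      exact commutatorElement_eq_one_iff_commute.1 h6

/-- two lists of roots commute -/
def okList (l l' : List ℕ) : Bool := l.all fun r => l'.all fun s => okPair r s

theorem commute_word {l l' : List ℕ} (h : okList l l' = true) {w v : List (ℕ × K)}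
    (hw : w.map Prod.fst = l) (hv : v.map Prod.fst = l') : Commute (wordG w) (wordG v) := by
  have h' : ∀ r ∈ l, ∀ s ∈ l', okPair r s = true := by
    intro r hr s hs
    have := List.all_eq_true.1 h r hr
    exact List.all_eq_true.1 this s hs
  rw [wordG, wordG]
  refine Commute.list_prod_left _ _ ?_
  intro x hx
  refine Commute.list_prod_right _ _ ?_
  intro y hy
  obtain ⟨p, hp, rfl⟩ := List.mem_map.1 hx
  obtain ⟨q, hq, rfl⟩ := List.mem_map.1 hy
  refine commute_of_ok (h' _ ?_ _ ?_) _ _
  · rw [← hw]; exact List.mem_map_of_mem hp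
  · rw [← hv]; exact List.mem_map_of_mem hq

theorem kk_eq_one {l l' : List ℕ} (h : okList l l' = true) {w v : List (ℕ × K)}
    (hw : w.map Prod.fst = l) (hv : v.map Prod.fst = l') : kk (wordG w) (wordG v) = 1 := by
  have := (commute_word h hw hv).eq
  rw [kk, mul_assoc, this]
  group

/-- addition in a class of commuting roots -/
theorem add_triple {r s u : ℕ} (h1 : okPair r s = true) (h2 : okPair r u = true) (h3 : okPair s u = true)
    (a b c a' b' c' : K) : (wordG [(r, a + a'), (s, b + b'), (u, c + c')] : GL chevD4.Idx K) =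
      wordG [(r, a), (s, b), (u, c)] * wordG [(r, a'), (s, b'), (u, c')] := by
  simp only [wordG_cons, wordG_nil, mul_one, xG_add]
  have e1 := (commute_of_ok h1 a' b).eq
  have e2 := (commute_of_ok h2 a' c).eq
  have e3 := (commute_of_ok h3 b' c).eq
  calc xG r a * xG r a' * (xG s b * xG s b' * (xG u c * xG u c')) =
      xG r a * (xG r a' * xG s b) * (xG s b' * xG u c) * xG u c' := by group
    _ = xG r a * (xG s b * xG r a') * (xG u c * xG s b') * xG u c' := by rw [e1, e3]
    _ = xG r a * xG s b * (xG r a' * xG u c) * xG s b' * xG u c' := by group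
    _ = xG r a * xG s b * (xG u c * xG r a') * xG s b' * xG u c' := by rw [e2]
    _ = _ := by group

/-! ### The root elements -/

variable (σ : K → K)

/-- short simple root -/
def X1 (a : K) : GL chevD4.Idx K := wordG [(18, a), (13, σ a), (12, σ (σ a))]
def X2 (t : K) : GL chevD4.Idx K := wordG [(22, t)]
def X3 (a : K) : GL chevD4.Idx K := wordG [(17, -a), (20, σ a), (21, σ (σ a))]
def X4 (t : K) : GL chevD4.Idx K := wordG [(23, -t)]
def X5 (a : K) : GL chevD4.Idx K := wordG [(19, a), (16, -σ a), (15, -σ (σ a))]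
/-- long simple root -/
def X6 (t : K) : GL chevD4.Idx K := wordG [(14, t)]

/-- the assignment of the variables -/
def rho6 (a b : K) : ℕ → K
  | 0 => a
  | 1 => σ a
  | 2 => σ (σ a)
  | 3 => b
  | 4 => σ b
  | _ => σ (σ b)

end Cfsg.Agent.Hexagon.TwD4Rel

namespace Cfsg.Agent.Hexagon.TwD4Rel

open Cfsg.Lie
open Cfsg.Agent.ChevalleyStructure.WordCheck
open Cfsg.Agent.ChevalleyStructure.D4Comm Cfsg.Agent.ChevalleyStructure.D4CommTab
open Cfsg.Agent.ChevalleyStructure.D4NConj
open Cfsg.Agent.Hexagon.TwD4Chk Cfsg.Agent.SplitTwo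

variable {K : Type*} [Field K] (σ : K ≃+* K)

theorem k13 (a b : K) : kk (X1 σ a) (X3 σ b) = X2 (trc σ a b) := by
  have h := rel_of_check (rho6 σ a b) check13
  have e : wordG (wval (rho6 σ a b) (p2 tr)) = X2 (trc σ a b) := by
    have : (tr.denote (rho6 σ a b)) = trc σ a b := by
      simp only [tr, PExpr.denote, rho6, trc, map_mul]
      ring
    show wordG [(22, tr.denote (rho6 σ a b))] = _
    rw [this]
    rfl
  rw [e] at h
  exact h

theorem k35 (a b : K) : kk (X3 σ a) (X5 σ b) = X4 (trc σ a b) := by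
  have h := rel_of_check (rho6 σ a b) check35
  have e : wordG (wval (rho6 σ a b) (p4 tr)) = X4 (trc σ a b) := by
    have : (tr.denote (rho6 σ a b)) = trc σ a b := by
      simp only [tr, PExpr.denote, rho6, trc, map_mul]
      ring
    show wordG [(23, -tr.denote (rho6 σ a b))] = _
    rw [this]
    rfl
  rw [e] at h
  exact h

theorem k15 (h3 : ∀ a, σ (σ (σ a)) = a) (a b : K) : kk (X1 σ a) (X5 σ b) =
    X2 (-(trc σ (shp σ a) b)) * X3 σ (crs σ a b) * X4 (trc σ a (shp σ b)) := by
  have h := rel_of_check (rho6 σ a b) check15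
  rw [wval_append, wval_append, wordG_append, wordG_append] at h
  have e2 : wordG (wval (rho6 σ a b) (p2 q2)) = X2 (-(trc σ (shp σ a) b)) := by
    have : (q2.denote (rho6 σ a b)) = -(trc σ (shp σ a) b) := by
      simp only [q2, PExpr.denote, rho6, trc, shp, map_mul, h3]
      ring
    show wordG [(22, q2.denote (rho6 σ a b))] = _
    rw [this]
    rfl
  have e4 : wordG (wval (rho6 σ a b) (p4 q4)) = X4 (trc σ a (shp σ b)) := by
    have : (q4.denote (rho6 σ a b)) = trc σ a (shp σ b) := by
      simp only [q4, PExpr.denote, rho6, trc, shp, map_mul, h3]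
      ring
    show wordG [(23, -q4.denote (rho6 σ a b))] = _
    rw [this]
    rfl
  have e3 : wordG (wval (rho6 σ a b) (p3 (cr 1 2 4 5) (cr 2 0 5 3) (cr 0 1 3 4))) =
      X3 σ (crs σ a b) := by
    have c0 : (cr 1 2 4 5).denote (rho6 σ a b) = crs σ a b := by
      simp only [cr, PExpr.denote, rho6, crs]
    have c1 : (cr 2 0 5 3).denote (rho6 σ a b) = σ (crs σ a b) := by
      simp only [cr, PExpr.denote, rho6, crs, map_add, map_mul, h3]
    have c2 : (cr 0 1 3 4).denote (rho6 σ a b) = σ (σ (crs σ a b)) := by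
      simp only [cr, PExpr.denote, rho6, crs, map_add, map_mul, h3]
    show wordG [(17, -(cr 1 2 4 5).denote (rho6 σ a b)), (20, (cr 2 0 5 3).denote (rho6 σ a b)),
      (21, (cr 0 1 3 4).denote (rho6 σ a b))] = _
    rw [c0, c1, c2]
    rfl
  rw [e2, e3, e4, ← mul_assoc] at h
  exact h

/-- the assignment of the variables for `x₁`, `x₆` -/
def rho4 (σ : K → K) (a t : K) : ℕ → K
  | 0 => a
  | 1 => σ a
  | 2 => σ (σ a)
  | _ => t

theorem k16 (h3 : ∀ a, σ (σ (σ a)) = a) (a t : K) (ht : σ t = t) : kk (X1 σ a) (X6 t) =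
    X2 (-(t * nrm σ a)) * X3 σ (t * shp σ a) * X4 (t ^ 2 * nrm σ a) * X5 σ (-(t * a)) := by
  have h := rel_of_check (rho4 σ a t) check16
  rw [wval_append, wval_append, wval_append, wordG_append, wordG_append, wordG_append] at h
  have e2 : wordG (wval (rho4 σ a t) (p2 (.neg (.mul (.var 3) nm)))) = X2 (-(t * nrm σ a)) := by
    have : (-(t * (a * (σ a * σ (σ a))))) = -(t * nrm σ a) := by
      simp only [nrm]; ring
    show wordG [(22, -(t * (a * (σ a * σ (σ a)))))] = _
    rw [this]
    rfl
  have e3 : wordG (wval (rho4 σ a t) (p3 (.mul (.var 3) (.mul (.var 1) (.var 2)))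
      (.mul (.var 3) (.mul (.var 2) (.var 0))) (.mul (.var 3) (.mul (.var 0) (.var 1))))) =
      X3 σ (t * shp σ a) := by
    have c1 : σ (t * shp σ a) = t * (σ (σ a) * a) := by
      simp only [shp, map_mul, ht, h3]
    have c2 : σ (σ (t * shp σ a)) = t * (a * σ a) := by
      simp only [shp, map_mul, ht, h3]
    show wordG [(17, -(t * (σ a * σ (σ a)))), (20, t * (σ (σ a) * a)), (21, t * (a * σ a))] = _
    rw [← c1, ← c2]
    rfl
  have e4 : wordG (wval (rho4 σ a t) (p4 (.mul (.mul (.var 3) (.var 3)) nm))) =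
      X4 (t ^ 2 * nrm σ a) := by
    have : t * t * (a * (σ a * σ (σ a))) = t ^ 2 * nrm σ a := by
      simp only [nrm]; ring
    show wordG [(23, -(t * t * (a * (σ a * σ (σ a)))))] = _
    rw [this]
    rfl
  have e5 : wordG (wval (rho4 σ a t) (p5 (.neg (.mul (.var 3) (.var 0))) (.neg (.mul (.var 3) (.var 1)))
      (.neg (.mul (.var 3) (.var 2))))) = X5 σ (-(t * a)) := by
    have c1 : σ (-(t * a)) = -(t * σ a) := by
      simp only [map_neg, map_mul, ht]
    have c2 : σ (σ (-(t * a))) = -(t * σ (σ a)) := by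
      simp only [map_neg, map_mul, ht]
    show wordG [(19, -(t * a)), (16, - -(t * σ a)), (15, - -(t * σ (σ a)))] = _
    rw [← c1, ← c2]
    rfl
  rw [e2, e3, e4, e5, ← mul_assoc, ← mul_assoc] at h
  exact h

/-- the assignment of the variables for `x₂`, `x₆` -/
def rho2 (t u : K) : ℕ → K
  | 0 => t
  | _ => u

theorem k26 (t u : K) : kk (X2 t) (X6 u) = X4 (t * u) := by
  have h := rel_of_check (rho2 t u) check26
  have e2 : wordG (wval (rho2 t u) (p2 (.var 0))) = X2 t := rfl
  have e6 : wordG (wval (rho2 t u) (p6 (.var 1))) = X6 u := rfl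
  have e4 : wordG (wval (rho2 t u) (p4 (.mul (.var 0) (.var 1)))) = X4 (t * u) := rfl
  rw [e2, e6, e4] at h
  exact h

/-- **The positive relations.** -/
theorem hexRel (h3 : ∀ a, σ (σ (σ a)) = a) :
    HexRel σ (X1 σ) (X2 : K → GL chevD4.Idx K) (X3 σ) X4 (X5 σ) X6 where
  cube := h3
  add1 a b := by
    simp only [X1, map_add]
    exact add_triple (by decide +kernel) (by decide +kernel) (by decide +kernel) _ _ _ _ _ _
  add2 a b _ _ := by simp only [X2, wordG_cons, wordG_nil, mul_one, xG_add]
  add3 a b := by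
    simp only [X3, map_add, neg_add]
    exact add_triple (by decide +kernel) (by decide +kernel) (by decide +kernel) _ _ _ _ _ _
  add4 a b _ _ := by simp only [X4, wordG_cons, wordG_nil, mul_one, neg_add, xG_add]
  add5 a b := by
    simp only [X5, map_add, neg_add]
    exact add_triple (by decide +kernel) (by decide +kernel) (by decide +kernel) _ _ _ _ _ _
  add6 a b _ _ := by simp only [X6, wordG_cons, wordG_nil, mul_one, xG_add]
  c12 a t _ := kk_eq_one (l := [18, 13, 12]) (l' := [22]) (by decide +kernel) rfl rfl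
  c13 a b := k13 σ a b
  c14 a t _ := kk_eq_one (l := [18, 13, 12]) (l' := [23]) (by decide +kernel) rfl rfl
  c15 a b := k15 σ h3 a b
  c16 a t ht := k16 σ h3 a t ht
  c23 t a _ := kk_eq_one (l := [22]) (l' := [17, 20, 21]) (by decide +kernel) rfl rfl
  c24 t u _ _ := kk_eq_one (l := [22]) (l' := [23]) (by decide +kernel) rfl rfl
  c25 t a _ := kk_eq_one (l := [22]) (l' := [19, 16, 15]) (by decide +kernel) rfl rfl
  c26 t u _ _ := k26 t u
  c34 a t _ := kk_eq_one (l := [17, 20, 21]) (l' := [23]) (by decide +kernel) rfl rfl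
  c35 a b := k35 σ a b
  c36 a t _ := kk_eq_one (l := [17, 20, 21]) (l' := [14]) (by decide +kernel) rfl rfl
  c45 t a _ := kk_eq_one (l := [23]) (l' := [19, 16, 15]) (by decide +kernel) rfl rfl
  c46 t u _ _ := kk_eq_one (l := [23]) (l' := [14]) (by decide +kernel) rfl rfl
  c56 a t _ := kk_eq_one (l := [19, 16, 15]) (l' := [14]) (by decide +kernel) rfl rfl

end Cfsg.Agent.Hexagon.TwD4Rel
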