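import Cfsg.Agent.ChevalleyStructure.BNChev
import Cfsg.Agent.ChevalleyStructure.WordCheck

/-!
# Word identities in the root elements of a Chevalley group

`gval hD ρ w`: the element of `GL` given by the symbolic word `w` at the parameters `ρ`.
`gval_eq`, `gval_comm`: identities from the reflective checker.
-/

set_option autoImplicit false

namespace Cfsg.Agent.Hexagon.Words

open Cfsg.Lie
open Cfsg.Agent.ChevalleyStructure.Elts Cfsg.Agent.ChevalleyStructure.WordCheck
open scoped commutatorElement

universe u

variable {F : Type u} [Field F] {D : ChevalleyDatum}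

/-- inverse word -/
def winv (w : List (ℕ × PExpr)) : List (ℕ × PExpr) := (w.map fun p => (p.1, .neg p.2)).reverse

/-- commutator word -/
def cw (w v : List (ℕ × PExpr)) : List (ℕ × PExpr) := w ++ (v ++ (winv w ++ winv v))

/-- value of a symbolic word -/
def gval (hD : InList D) (ρ : ℕ → F) (w : List (ℕ × PExpr)) : GL D.Idx F := wordG hD (wval ρ w)

theorem gval_nil (hD : InList D) (ρ : ℕ → F) : gval hD ρ [] = 1 := rfl

theorem gval_cons (hD : InList D) (ρ : ℕ → F) (r : ℕ) (p : PExpr) (w : List (ℕ × PExpr)) :
    gval hD ρ ((r, p) :: w) = xG hD r (p.denote ρ) * gval hD ρ w := wordG_cons hD _ _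

theorem gval_append (hD : InList D) (ρ : ℕ → F) (w v : List (ℕ × PExpr)) :
    gval hD ρ (w ++ v) = gval hD ρ w * gval hD ρ v := by
  unfold gval wval
  rw [List.map_append, wordG_append]

theorem gval_winv (hD : InList D) (ρ : ℕ → F) (w : List (ℕ × PExpr)) :
    gval hD ρ (winv w) = (gval hD ρ w)⁻¹ := by
  induction w with
  | nil => simp [winv, gval_nil]
  | cons p w ih =>
    obtain ⟨r, p⟩ := p
    have e : winv ((r, p) :: w) = winv w ++ [(r, .neg p)] := by simp [winv]
    rw [e, gval_append, ih, gval_cons, gval_cons, gval_nil, mul_one, mul_inv_rev, xG_inv]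
    rfl

theorem gval_cw (hD : InList D) (ρ : ℕ → F) (w v : List (ℕ × PExpr)) :
    gval hD ρ (cw w v) = ⁅gval hD ρ w, gval hD ρ v⁆ := by
  unfold cw
  rw [gval_append, gval_append, gval_append, gval_winv, gval_winv, commutatorElement_def]
  group

/-- equality of two words from the check -/
theorem gval_eq (hD : InList D) (ρ : ℕ → F) (nv : ℕ) {w v : List (ℕ × PExpr)}
    (h : check D 0 0 nv (xw w) (xw v) = true) : gval hD ρ w = gval hD ρ v := by
  apply Units.ext
  unfold gval
  rw [coe_wordG, coe_wordG]
  exact wordMat_eq_of_check D ρ 0 0 nv w v h (by simp) (by simp)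

/-- commutator identities from the check -/
theorem gval_comm (hD : InList D) (ρ : ℕ → F) (nv : ℕ) {w v z : List (ℕ × PExpr)}
    (h : check D 0 0 nv (xw (cw w v)) (xw z) = true) : ⁅gval hD ρ w, gval hD ρ v⁆ = gval hD ρ z := by
  rw [← gval_cw]
  exact gval_eq hD ρ nv h

end Cfsg.Agent.Hexagon.Words
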